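import Cfsg.Agent.H397.KHomTwo
import Cfsg.Agent.H436.TTBase

/-!
# Tools for the rows of S3564 (helper391)

* `exists_sub_orbit` : if `p^a` divides the length of an orbit of `H`, some subgroup has an orbit of length `p^a`;
* `exists_orbit_of_orderOf` : an element of order `p^a` (faithful action) has an orbit of length `p^a`;
* `exists_orbit_six` : an element `g` with `g^6 = 1` and `#fix(g^2) + #fix(g^3) < n` has an orbit of length 6;
* `bound` : order bounds for `Hom G Ω k` and not `Homog (k-1)`.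
-/

set_option autoImplicit false
set_option linter.unusedSectionVars false

namespace Cfsg.Agent.H391.KOrb

open MulAction Cfsg.Agent.H397.KHom Cfsg.Agent.H384.TwoTrans

section orbits

variable {G Ω : Type*} [Group G] [MulAction G Ω]

theorem card_stab_eq (K : Subgroup G) (x : Ω) : Nat.card (stabilizer K x) = Nat.card ↥(K ⊓ stabilizer G x) := by
  have h1 : (stabilizer K x).map K.subtype = K ⊓ stabilizer G x := by
    ext g
    simp only [Subgroup.mem_map, Subgroup.mem_inf, mem_stabilizer_iff, Subgroup.coe_subtype]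
    constructor
    · rintro ⟨k, hk, rfl⟩
      exact ⟨k.2, hk⟩
    · rintro ⟨hg, hx⟩
      exact ⟨⟨g, hg⟩, hx, rfl⟩
  rw [← h1]
  exact (Subgroup.card_map_of_injective K.subtype_injective).symm

theorem ncard_orbit_mul (K : Subgroup G) (x : Ω) :
    (orbit K x).ncard * Nat.card ↥(K ⊓ stabilizer G x) = Nat.card K := by
  rw [← card_stab_eq, ← Nat.card_coe_set_eq, ← Nat.card_congr (orbitEquivQuotientStabilizer K x).symm]
  exact (Subgroup.card_eq_card_quotient_mul_card_subgroup (stabilizer K x)).symm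

theorem exists_sub_orbit [Finite G] (H : Subgroup G) (x : Ω) {p a : ℕ} (hp : p.Prime)
    (h : p ^ a ∣ (orbit H x).ncard) : ∃ Q : Subgroup G, Q ≤ H ∧ (orbit Q x).ncard = p ^ a := by
  classical
  have hfp : Fact p.Prime := ⟨hp⟩
  obtain ⟨P⟩ : Nonempty (Sylow p H) := inferInstance
  set Q₀ : Subgroup G := (P : Subgroup H).map H.subtype with hQ₀
  have hQH : Q₀ ≤ H := Subgroup.map_subtype_le _
  have hPcard : Nat.card Q₀ = p ^ (Nat.card H).factorization p := by
    rw [hQ₀, Subgroup.card_map_of_injective H.subtype_injective]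
    exact P.card_eq_multiplicity
  have h1 := ncard_orbit_mul H x
  have h2 := ncard_orbit_mul Q₀ x
  obtain ⟨b, hb, hb'⟩ := (Nat.dvd_prime_pow hp).1 (show Nat.card ↥(Q₀ ⊓ stabilizer G x) ∣
      p ^ (Nat.card H).factorization p by rw [← hPcard]; exact Dvd.intro_left _ h2)
  have hdvd : p ^ b ∣ Nat.card ↥(H ⊓ stabilizer G x) := by
    rw [← hb']
    exact Subgroup.card_dvd_of_le (inf_le_inf_right _ hQH)
  have hle : a + b ≤ (Nat.card H).factorization p := by
    have h3 : p ^ (a + b) ∣ Nat.card H := by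
      rw [pow_add, ← h1]
      exact Nat.mul_dvd_mul h hdvd
    exact (hp.pow_dvd_iff_le_factorization Nat.card_pos.ne').1 h3
  -- the intermediate subgroup
  obtain ⟨K, hK, hKle⟩ := Sylow.exists_subgroup_card_pow_prime_le (G := Q₀) p (n := b) (m := a + b)
    (by rw [hPcard]; exact pow_dvd_pow p hle) ((stabilizer G x).subgroupOf Q₀) (by
      rw [← hb', ← card_stab_eq]; rfl) (by omega)
  refine ⟨K.map Q₀.subtype, (Subgroup.map_subtype_le _).trans hQH, ?_⟩
  have h3 := ncard_orbit_mul (K.map Q₀.subtype) x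
  have h4 : K.map Q₀.subtype ⊓ stabilizer G x = Q₀ ⊓ stabilizer G x := by
    apply le_antisymm
    · exact inf_le_inf_right _ (Subgroup.map_subtype_le _)
    · rintro g ⟨hg, hgx⟩
      exact ⟨⟨⟨g, hg⟩, hKle hgx, rfl⟩, hgx⟩
  rw [h4, hb', Subgroup.card_map_of_injective Q₀.subtype_injective, hK, pow_add] at h3
  exact Nat.eq_of_mul_eq_mul_right (pow_pos hp.pos b) h3

/-- an element of order `p^(a+1)` has an orbit of this length -/
theorem exists_orbit_of_orderOf [Finite G] [FaithfulSMul G Ω] {g : G} {p a : ℕ} (hp : p.Prime)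
    (h : orderOf g = p ^ (a + 1)) : ∃ x : Ω, (orbit (Subgroup.zpowers g) x).ncard = p ^ (a + 1) := by
  have h1 : g ^ p ^ a ≠ 1 := by
    intro h0
    have := orderOf_dvd_of_pow_eq_one h0
    rw [h] at this
    have h2 := Nat.le_of_dvd (pow_pos hp.pos _) this
    have h3 : p ^ a < p ^ (a + 1) := Nat.pow_lt_pow_right hp.one_lt (by omega)
    omega
  obtain ⟨x, hx⟩ : ∃ x : Ω, (g ^ p ^ a) • x ≠ x := by
    by_contra hcon
    push Not at hcon
    exact h1 (eq_of_smul_eq_smul (fun x : Ω => by rw [hcon x, one_smul]))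
  refine ⟨x, ?_⟩
  have h2 := ncard_orbit_mul (Subgroup.zpowers g) x
  rw [Nat.card_zpowers, h] at h2
  obtain ⟨b, hb, hb'⟩ := (Nat.dvd_prime_pow hp).1 (Dvd.intro _ h2)
  rw [hb'] at h2
  rcases hb.lt_or_eq with hlt | heq
  · exfalso
    apply hx
    -- the stabiliser contains g^(p^b)
    have h3 : (orbit (Subgroup.zpowers g) x).ncard = p ^ b := hb'
    let y : Subgroup.zpowers g := ⟨g, Subgroup.mem_zpowers g⟩
    have hy : y ^ p ^ b ∈ stabilizer (Subgroup.zpowers g) x := by
      have hidx : (stabilizer (Subgroup.zpowers g) x).index = p ^ b := by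
        rw [Subgroup.index, Nat.card_congr (orbitEquivQuotientStabilizer _ x).symm, Nat.card_coe_set_eq]
        exact hb'
      have := (stabilizer (Subgroup.zpowers g) x).pow_index_mem y
      rwa [hidx] at this
    have h4 : (g ^ p ^ b) • x = x := hy
    obtain ⟨c, hc⟩ := pow_dvd_pow p (show b ≤ a by omega)
    rw [hc, pow_mul]
    have h5 : ∀ c : ℕ, ((g ^ p ^ b) ^ c) • x = x := by
      intro c
      induction c with
      | zero => rw [pow_zero, one_smul]
      | succ c ih => rw [pow_succ, mul_smul, h4, ih]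
    exact h5 c
  · rw [hb', heq]

theorem exists_orbit_six [Finite G] [Finite Ω] {g : G} (h6 : g ^ 6 = 1)
    (hfix : {x : Ω | (g ^ 2) • x = x}.ncard + {x : Ω | (g ^ 3) • x = x}.ncard < Nat.card Ω) :
    ∃ x : Ω, (orbit (Subgroup.zpowers g) x).ncard = 6 := by
  classical
  obtain ⟨x, hx2, hx3⟩ : ∃ x : Ω, (g ^ 2) • x ≠ x ∧ (g ^ 3) • x ≠ x := by
    by_contra hcon
    push Not at hcon
    have h1 : (Set.univ : Set Ω) ⊆ {x : Ω | (g ^ 2) • x = x} ∪ {x : Ω | (g ^ 3) • x = x} := by
      intro x _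
      by_cases h : (g ^ 2) • x = x
      · exact Or.inl h
      · exact Or.inr (hcon x h)
    have h2 := (Set.ncard_le_ncard h1 (Set.toFinite _)).trans (Set.ncard_union_le _ _)
    rw [Set.ncard_univ] at h2
    omega
  refine ⟨x, ?_⟩
  have h2 := ncard_orbit_mul (Subgroup.zpowers g) x
  rw [Nat.card_zpowers] at h2
  have h7 : orderOf g ∣ 6 := orderOf_dvd_of_pow_eq_one h6
  have h3 : (orbit (Subgroup.zpowers g) x).ncard ∣ 6 := (Dvd.intro _ h2).trans h7
  have hidx : (stabilizer (Subgroup.zpowers g) x).index = (orbit (Subgroup.zpowers g) x).ncard := by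
    rw [Subgroup.index, Nat.card_congr (orbitEquivQuotientStabilizer _ x).symm, Nat.card_coe_set_eq]
  have hpow : (g ^ (orbit (Subgroup.zpowers g) x).ncard) • x = x := by
    let y : Subgroup.zpowers g := ⟨g, Subgroup.mem_zpowers g⟩
    have := (stabilizer (Subgroup.zpowers g) x).pow_index_mem y
    rw [hidx] at this
    exact this
  have h5 : ∀ (c m : ℕ), (g ^ m) • x = x → (g ^ (m * c)) • x = x := by
    intro c m hm
    induction c with
    | zero => rw [mul_zero, pow_zero, one_smul]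
    | succ c ih => rw [mul_add, mul_one, pow_add, mul_smul, hm, ih]
  have h8 : (orbit (Subgroup.zpowers g) x).ncard ≤ 6 := Nat.le_of_dvd (by norm_num) h3
  interval_cases hc : (orbit (Subgroup.zpowers g) x).ncard
  · simp at h3
  · exact absurd (h5 2 1 hpow) hx2
  · exact absurd hpow hx2
  · exact absurd hpow hx3
  · norm_num at h3
  · norm_num at h3
  · rfl

end orbits

section bounds

variable {G Ω : Type*} [Group G] [MulAction G Ω] [DecidableEq Ω] [Fintype Ω]

/-- order bound, `k ≥ 6` -/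
theorem bound [Finite G] {k : ℕ} (h : Hom G Ω k) (hk : 6 ≤ k) (hn : 2 * k ≤ Fintype.card Ω + 1)
    (hnot : ¬ Homog G Ω (k - 1)) : (Fintype.card Ω).choose 5 ≤ Nat.card G ∨
      ∀ j ≤ k - 1, (Fintype.card Ω).choose j ≤ 5 * Nat.card G := by
  obtain ⟨s, hs3, hsk, hs1, hs2, hmono, -⟩ := h.exists_level (by omega) hn (by omega) hnot
  by_cases h5 : s ≤ 5
  · right
    intro j hj
    refine (choose_le_numOrb_mul j).trans (Nat.mul_le_mul_right _ ((hmono j hj).trans h5))
  · left
    have h6 : Homog G Ω 5 := hs1.mono (by omega) (by omega)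
    have h7 := homog_iff_numOrb.1 h6
    calc _ ≤ numOrb G Ω 5 * Nat.card G := choose_le_numOrb_mul 5
      _ ≤ 1 * Nat.card G := Nat.mul_le_mul_right _ h7
      _ = _ := one_mul _

/-- order bound, `k = 5` -/
theorem bound_five [Finite G] (h : Hom G Ω 5) (hn : 9 ≤ Fintype.card Ω)
    (hnot : ¬ Homog G Ω 4) : (Fintype.card Ω).choose 4 ≤ 4 * Nat.card G := by
  obtain ⟨s, hs3, hsk, hs1, hs2, hmono, -⟩ := h.exists_level (by omega) (by omega) (by omega) hnot
  exact (choose_le_numOrb_mul 4).trans (Nat.mul_le_mul_right _ ((hmono 4 (by omega)).trans (by omega)))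

/-- a prime power dividing the length of an orbit of a subgroup -/
theorem homog_of_dvd [Finite G] {p a : ℕ} (hp : p.Prime) (h : Hom G Ω (p ^ a)) (H : Subgroup G) (x : Ω)
    (hd : p ^ a ∣ (orbit H x).ncard) : Homog G Ω (p ^ a - 1) := by
  obtain ⟨Q, -, hQ⟩ := exists_sub_orbit H x hp hd
  exact h.homog_of_orbit (Nat.one_le_pow _ _ hp.pos) Q x hQ

theorem homog_of_orderOf [Finite G] [FaithfulSMul G Ω] {p a : ℕ} (hp : p.Prime) (h : Hom G Ω (p ^ (a + 1))) {g : G}
    (hg : orderOf g = p ^ (a + 1)) : Homog G Ω (p ^ (a + 1) - 1) := by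
  obtain ⟨x, hx⟩ := exists_orbit_of_orderOf (Ω := Ω) hp hg
  exact h.homog_of_orbit (Nat.one_le_pow _ _ hp.pos) _ x hx

/-- `k = p` prime divisor of the order -/
theorem homog_of_prime_dvd [Finite G] [FaithfulSMul G Ω] {p : ℕ} (hp : p.Prime) (h : Hom G Ω p)
    (hg : p ∣ Nat.card G) : Homog G Ω (p - 1) := by
  have : Fact p.Prime := ⟨hp⟩
  obtain ⟨g, hg⟩ := exists_prime_orderOf_dvd_card' p hg
  have h1 : Hom G Ω (p ^ (0 + 1)) := by rwa [zero_add, pow_one]
  have := homog_of_orderOf (a := 0) hp h1 (g := g) (by rw [zero_add, pow_one]; exact hg)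
  rwa [zero_add, pow_one] at this

end bounds

section AS

universe u v

variable {G : Type u} {Ω : Type v} [Group G] [MulAction G Ω] {T : Subgroup G} [DecidableEq Ω] [Fintype Ω]

/-- `G_x` is transitive on the other points. -/
theorem orbit_stab (A : AS G Ω T) {x y : Ω} (hxy : y ≠ x) :
    (orbit (stabilizer G x) y).ncard = Fintype.card Ω - 1 := by
  have h1 : orbit (stabilizer G x) y = {x}ᶜ := by
    ext z
    rw [Set.mem_compl_iff, Set.mem_singleton_iff]
    constructor
    · rintro ⟨g, rfl⟩ h0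
      have h2 : (g : G) • x = x := g.2
      have h3 : (g : G) • y = x := h0
      exact hxy (smul_left_cancel (g : G) (h3.trans h2.symm))
    · intro hz
      have h2t := A.two
      rw [is_two_pretransitive_iff] at h2t
      obtain ⟨g, hg1, hg2⟩ := h2t (a := x) (b := y) (c := x) (d := z) hxy.symm (Ne.symm hz)
      exact ⟨⟨g, hg1⟩, hg2⟩
  rw [h1, Set.ncard_compl, Set.ncard_singleton, Nat.card_eq_fintype_card]

/-- `k = p^a` divides `n` or `n - 1`. -/
theorem homog_of_dvd_card (A : AS G Ω T) {p a : ℕ} (hp : p.Prime) (h : Hom G Ω (p ^ a))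
    (hd : p ^ a ∣ Fintype.card Ω ∨ p ^ a ∣ Fintype.card Ω - 1) : Homog G Ω (p ^ a - 1) := by
  have := A.finG
  have := Cfsg.Agent.H436.TT.nontrivial_omega A
  have htr : IsPretransitive G Ω := (Cfsg.Agent.H436.TT.prim A).toIsPretransitive
  obtain ⟨x, y, hxy⟩ := exists_pair_ne Ω
  rcases hd with hd | hd
  · refine homog_of_dvd hp h ⊤ x ?_
    have : orbit (⊤ : Subgroup G) x = Set.univ := by
      ext z
      obtain ⟨g, rfl⟩ := exists_smul_eq G x z
      exact ⟨fun _ => trivial, fun _ => ⟨⟨g, trivial⟩, rfl⟩⟩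
    rw [this, Set.ncard_univ, Nat.card_eq_fintype_card]
    exact hd
  · refine homog_of_dvd hp h (stabilizer G x) y ?_
    rw [orbit_stab A hxy.symm]
    exact hd

end AS

end Cfsg.Agent.H391.KOrb
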