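import Cfsg.Agent.H391.KOrb

/-!
# Tools for the row `PSL_2(q)` of S3564 (helper391)

* `sylow_trick` : `C(n,k-1) p^a ≤ k |G|` if `p^(a+b)` divides `|G|` and `p^(b+1)` does not divide `C(n,k-1)` or
  `C(n,k)`;
* `strict_five` : `C(n,4) < 5 |I^G|` for a 4-set `I` of a group `G` with `Hom G Ω 5`, `n ≥ 9`;
* `exists_regular` : a small subgroup of a group whose non-trivial elements fix at most two points has a regular orbit.
-/

set_option autoImplicit false
set_option linter.unusedSectionVars false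

namespace Cfsg.Agent.H391.KPslA

open MulAction Cfsg.Agent.H397.KHom Cfsg.Agent.H384.TwoTrans Cfsg.Agent.H391.KOrb
open scoped Pointwise

section tools

variable {G Ω : Type*} [Group G] [MulAction G Ω] [DecidableEq Ω] [Fintype Ω]

/-- a divisibility by orbits -/
theorem dvd_card_of_orbits {X : Type*} [Finite X] [MulAction G X] {m : ℕ}
    (h : ∀ x : X, m ∣ (orbit G x).ncard) : m ∣ Nat.card X := by
  classical
  have := Fintype.ofFinite X
  have : Fintype (Quotient (orbitRel G X)) := Fintype.ofFinite _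
  have : ∀ ω : Quotient (orbitRel G X), Fintype (orbit G ω.out) := fun ω => Fintype.ofFinite _
  rw [Nat.card_congr (selfEquivSigmaOrbits G X), Nat.card_sigma]
  refine Finset.dvd_sum fun ω _ => ?_
  have := h ω.out
  rwa [← Nat.card_coe_set_eq] at this

/-- some `j`-set has a big stabiliser -/
theorem exists_stab [Finite G] {p a b j : ℕ} (hp : p.Prime) (ha : p ^ (a + b) ∣ Nat.card G)
    (hb : ¬ p ^ (b + 1) ∣ (Fintype.card Ω).choose j) :
    ∃ I : Finset Ω, I.card = j ∧ ∃ H : Subgroup G, p ^ a ≤ Nat.card H ∧ ∀ g ∈ H, g • I = I := by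
  classical
  have hfp : Fact p.Prime := ⟨hp⟩
  obtain ⟨P, hP⟩ := Sylow.exists_subgroup_card_pow_prime p ha
  have h1 : Nat.card (Set.powersetCard Ω j) = (Fintype.card Ω).choose j := by
    rw [Set.powersetCard.card, Nat.card_eq_fintype_card]
  have hfin : Finite (Set.powersetCard Ω j) := inferInstance
  obtain ⟨x, hx⟩ : ∃ x : Set.powersetCard Ω j, ¬ p ^ (b + 1) ∣ (orbit P x).ncard := by
    by_contra hcon
    push Not at hcon
    exact hb (h1 ▸ dvd_card_of_orbits hcon)
  have h2 := ncard_orbit_mul P x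
  rw [hP] at h2
  obtain ⟨i, hi, hi'⟩ := (Nat.dvd_prime_pow hp).1 (Dvd.intro _ h2)
  have hib : i ≤ b := by
    by_contra hcon
    apply hx
    rw [hi']
    exact pow_dvd_pow p (by omega)
  refine ⟨x.1, x.2, P ⊓ stabilizer G x, ?_, fun g hg => ?_⟩
  · rw [hi'] at h2
    have h3 : p ^ (a + b) = p ^ i * p ^ (a + (b - i)) := by
      rw [← pow_add]
      congr 1
      omega
    rw [h3] at h2
    have h4 := Nat.eq_of_mul_eq_mul_left (pow_pos hp.pos i) h2
    rw [h4]
    exact Nat.pow_le_pow_right hp.pos (by omega)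
  · have := hg.2
    exact congrArg Subtype.val (mem_stabilizer_iff.1 this)

/-- **Sylow trick** -/
theorem sylow_trick [Finite G] {k : ℕ} (h : Hom G Ω k) (hk : 1 ≤ k) (hn : k ≤ Fintype.card Ω) {p a b j : ℕ}
    (hj : j = k - 1 ∨ j = k) (hp : p.Prime) (ha : p ^ (a + b) ∣ Nat.card G)
    (hb : ¬ p ^ (b + 1) ∣ (Fintype.card Ω).choose j) :
    (Fintype.card Ω).choose (k - 1) * p ^ a ≤ k * Nat.card G := by
  obtain ⟨I, hI, H, hH, hHI⟩ := exists_stab (Ω := Ω) hp ha hb
  refine (Nat.mul_le_mul_left _ hH).trans ?_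
  rcases hj with rfl | rfl
  · exact h.choose_mul_card_le hk hn H hI hHI
  · exact h.choose_mul_card_le' hk H hI hHI

omit [Fintype Ω] in
theorem card_between {X A : Finset Ω} (hA : A ⊆ X) {r : ℕ} (hr : A.card = r) :
    ((Finset.powersetCard (r + 1) X).filter (fun J => A ⊆ J)).card = X.card - r := by
  subst hr
  have h1 : ((Finset.powersetCard (A.card + 1) X).filter (fun J => A ⊆ J)) =
      (X \ A).image (fun x => insert x A) := by
    ext J
    simp only [Finset.mem_filter, Finset.mem_powersetCard, Finset.mem_image, Finset.mem_sdiff]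
    constructor
    · rintro ⟨⟨hJX, hJc⟩, hAJ⟩
      have h2 : (J \ A).card = 1 := by rw [Finset.card_sdiff_of_subset hAJ, hJc]; omega
      obtain ⟨x, hx⟩ := Finset.card_eq_one.1 h2
      have hxJ : x ∈ J \ A := by rw [hx]; exact Finset.mem_singleton_self x
      rw [Finset.mem_sdiff] at hxJ
      refine ⟨x, ⟨hJX hxJ.1, hxJ.2⟩, ?_⟩
      rw [Finset.insert_eq, ← hx, Finset.sdiff_union_of_subset hAJ]
    · rintro ⟨x, ⟨hx, hxA⟩, rfl⟩
      exact ⟨⟨Finset.insert_subset hx hA, Finset.card_insert_of_notMem hxA⟩, Finset.subset_insert _ _⟩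
  rw [h1, Finset.card_image_of_injOn, Finset.card_sdiff_of_subset hA]
  intro x hx y hy hxy
  rw [Finset.mem_coe, Finset.mem_sdiff] at hx hy
  have h2 : x ∈ insert y A := by
    have h3 : insert x A = insert y A := hxy
    rw [← h3]
    exact Finset.mem_insert_self x A
  rw [Finset.mem_insert] at h2
  exact h2.resolve_right hx.2

omit [Fintype Ω] in
theorem sum_between (O : Finset (Finset Ω)) {r : ℕ} (hO : ∀ A ∈ O, A.card = r) (X : Finset Ω) :
    ∑ J ∈ Finset.powersetCard (r + 1) X, (O.filter (fun A => A ⊆ J)).card =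
      (O.filter (fun A => A ⊆ X)).card * (X.card - r) := by
  have h1 := Finset.sum_card_bipartiteAbove_eq_sum_card_bipartiteBelow (s := Finset.powersetCard (r + 1) X)
    (t := O.filter (fun A => A ⊆ X)) (fun J A => A ⊆ J)
  have h2 : ∑ J ∈ Finset.powersetCard (r + 1) X, (O.filter (fun A => A ⊆ J)).card =
      ∑ J ∈ Finset.powersetCard (r + 1) X,
        ((O.filter (fun A => A ⊆ X)).bipartiteAbove (fun J A => A ⊆ J) J).card := by
    refine Finset.sum_congr rfl fun J hJ => ?_
    rw [Finset.mem_powersetCard] at hJ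
    congr 1
    ext A
    simp only [Finset.bipartiteAbove, Finset.mem_filter]
    constructor
    · rintro ⟨h3, h4⟩
      exact ⟨⟨h3, h4.trans hJ.1⟩, h4⟩
    · rintro ⟨⟨h3, h5⟩, h4⟩
      exact ⟨h3, h4⟩
  rw [h2, h1, ← smul_eq_mul, ← Finset.sum_const]
  refine Finset.sum_congr rfl fun A hA => ?_
  rw [Finset.mem_filter] at hA
  exact card_between hA.2 (hO A hA.1)

/-- **Strictness.** -/
theorem strict_five (h : Hom G Ω 5) (hn : 9 ≤ Fintype.card Ω) {I : Finset Ω} (hI : I.card = 4) :
    (Fintype.card Ω).choose 4 < 5 * (orbit G I).ncard := by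
  classical
  obtain ⟨O, hO⟩ : ∃ O : Finset (Finset Ω), O = (Set.toFinite (orbit G I)).toFinset := ⟨_, rfl⟩
  have hOc : O.card = (orbit G I).ncard := by rw [hO, Set.ncard_eq_toFinset_card _ (Set.toFinite (orbit G I))]
  have hmem : ∀ A, A ∈ O ↔ A ∈ orbit G I := fun A => by rw [hO]; exact Set.Finite.mem_toFinset _
  have hcard : ∀ A ∈ O, A.card = 4 := by
    intro A hA
    rw [hmem] at hA
    obtain ⟨g, rfl⟩ := hA
    rw [← hI]
    exact Finset.card_smul_finset g I
  have hpos : ∀ J ∈ Finset.powersetCard (4 + 1) (Finset.univ : Finset Ω),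
      1 ≤ (O.filter (fun A => A ⊆ J)).card := by
    intro J hJ
    rw [Finset.mem_powersetCard_univ] at hJ
    obtain ⟨g, hg⟩ := h.exists_subset hI hJ
    rw [Finset.one_le_card]
    exact ⟨g • I, Finset.mem_filter.2 ⟨(hmem _).2 ⟨g, rfl⟩, hg⟩⟩
  rw [← hOc]
  by_contra hcon
  push Not at hcon
  have h1 := sum_between O hcard Finset.univ
  have h2 : (O.filter (fun A => A ⊆ Finset.univ)) = O := by
    rw [Finset.filter_true_of_mem]
    intro A _
    exact Finset.subset_univ A
  rw [h2, Finset.card_univ] at h1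
  -- the number of 5-sets
  have h3 : (Finset.powersetCard (4 + 1) (Finset.univ : Finset Ω)).card * 5 =
      (Fintype.card Ω).choose 4 * (Fintype.card Ω - 4) := by
    rw [Finset.card_powersetCard, Finset.card_univ]
    exact Nat.choose_succ_right_eq (Fintype.card Ω) 4
  have h4 : ∑ J ∈ Finset.powersetCard (4 + 1) (Finset.univ : Finset Ω), (O.filter (fun A => A ⊆ J)).card ≤
      ∑ J ∈ Finset.powersetCard (4 + 1) (Finset.univ : Finset Ω), 1 := by
    rw [h1, Finset.sum_const, smul_eq_mul, mul_one]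
    have h5 : 5 * (O.card * (Fintype.card Ω - 4)) ≤
        5 * (Finset.powersetCard (4 + 1) (Finset.univ : Finset Ω)).card := by
      rw [mul_comm 5 (Finset.card _), h3, ← mul_assoc]
      exact Nat.mul_le_mul_right _ hcon
    omega
  have h5 : ∀ J ∈ Finset.powersetCard (4 + 1) (Finset.univ : Finset Ω),
      (O.filter (fun A => A ⊆ J)).card = 1 := by
    intro J hJ
    have h6 := (Finset.sum_eq_sum_iff_of_le hpos).1
      (le_antisymm (Finset.sum_le_sum hpos) h4) J hJ
    exact h6.symm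
  obtain ⟨X, -, hX⟩ := Finset.exists_subset_card_eq (s := (Finset.univ : Finset Ω))
        (n := 9) (by rw [Finset.card_univ]; omega)
  have h6 := sum_between O hcard X
  have h7 : ∑ J ∈ Finset.powersetCard (4 + 1) X, (O.filter (fun A => A ⊆ J)).card =
      ∑ J ∈ Finset.powersetCard (4 + 1) X, 1 := by
    refine Finset.sum_congr rfl fun J hJ => h5 J ?_
    rw [Finset.mem_powersetCard] at hJ
    exact Finset.mem_powersetCard.2 ⟨Finset.subset_univ J, hJ.2⟩
  rw [h7, Finset.sum_const, smul_eq_mul, mul_one, Finset.card_powersetCard, hX] at h6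
  have h8 : Nat.choose 9 (4 + 1) = 126 := by decide
  rw [h8] at h6
  omega

theorem strict_five_mul [Finite G] (h : Hom G Ω 5) (hn : 9 ≤ Fintype.card Ω) (H : Subgroup G) {I : Finset Ω}
    (hI : I.card = 4) (hH : ∀ g ∈ H, g • I = I) :
    (Fintype.card Ω).choose 4 * Nat.card H < 5 * Nat.card G := by
  have h1 := strict_five h hn hI
  have h2 := ncard_orbit_mul_le H I hH
  have h3 : 0 < Nat.card H := Nat.card_pos
  calc _ < 5 * (orbit G I).ncard * Nat.card H := Nat.mul_lt_mul_of_pos_right h1 h3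
    _ = 5 * ((orbit G I).ncard * Nat.card H) := mul_assoc _ _ _
    _ ≤ _ := Nat.mul_le_mul_left _ h2

end tools

section regular

variable {G Ω : Type*} [Group G] [MulAction G Ω] [Finite G] [Finite Ω]

/-- a small subgroup has a regular orbit -/
theorem exists_regular {T : Subgroup G} (hfix : ∀ t ∈ T, t ≠ 1 → {x : Ω | t • x = x}.ncard ≤ 2)
    {H : Subgroup G} (hH : H ≤ T) (hc : 2 * (Nat.card H - 1) < Nat.card Ω) :
    ∃ x : Ω, (orbit H x).ncard = Nat.card H := by
  classical
  have := Fintype.ofFinite G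
  have := Fintype.ofFinite Ω
  obtain ⟨x, hx⟩ : ∃ x : Ω, ∀ h ∈ H, h ≠ 1 → h • x ≠ x := by
    by_contra hcon
    push Not at hcon
    let S : Finset G := Finset.univ.filter (fun h => h ∈ H ∧ h ≠ 1)
    have h1 : (Finset.univ : Finset Ω) ⊆ S.biUnion (fun h => Finset.univ.filter (fun x => h • x = x)) := by
      intro x _
      obtain ⟨h, hh, h1, h2⟩ := hcon x
      rw [Finset.mem_biUnion]
      exact ⟨h, Finset.mem_filter.2 ⟨Finset.mem_univ _, hh, h1⟩, Finset.mem_filter.2 ⟨Finset.mem_univ _, h2⟩⟩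
    have h2 := (Finset.card_le_card h1).trans Finset.card_biUnion_le
    have h3 : ∑ h ∈ S, (Finset.univ.filter (fun x : Ω => h • x = x)).card ≤ ∑ h ∈ S, 2 := by
      refine Finset.sum_le_sum fun h hh => ?_
      have hh' := (Finset.mem_filter.1 hh).2
      have h4 := hfix h (hH hh'.1) hh'.2
      rwa [Set.ncard_eq_toFinset_card', Set.toFinset_ofPred] at h4
    have h4 : S.card + 1 = Nat.card H := by
      have h5 : S = (Finset.univ.filter (fun h => h ∈ H)).erase 1 := by
        ext h
        simp only [S, Finset.mem_filter, Finset.mem_univ, true_and, Finset.mem_erase]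
        tauto
      have h6 : (1 : G) ∈ Finset.univ.filter (fun h => h ∈ H) := by simp [one_mem]
      rw [h5, Finset.card_erase_add_one h6, Nat.card_eq_fintype_card, ← Fintype.card_subtype]
    rw [Finset.sum_const, smul_eq_mul] at h3
    rw [Finset.card_univ, ← Nat.card_eq_fintype_card] at h2
    omega
  refine ⟨x, ?_⟩
  have h1 := ncard_orbit_mul H x
  have h2 : H ⊓ stabilizer G x = ⊥ := by
    rw [Subgroup.eq_bot_iff_forall]
    rintro g ⟨hg, hgx⟩
    by_contra h0
    exact hx g hg h0 hgx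
  rw [h2, Subgroup.card_bot, mul_one] at h1
  exact h1

theorem homog_of_subgroup [DecidableEq Ω] {T : Subgroup G}
    (hfix : ∀ t ∈ T, t ≠ 1 → {x : Ω | t • x = x}.ncard ≤ 2) {k : ℕ} (h : Hom G Ω k) (hk : 1 ≤ k)
    (h2k : 2 * k ≤ Nat.card Ω + 1) {H : Subgroup G} (hH : H ≤ T) (hc : Nat.card H = k) : Homog G Ω (k - 1) := by
  obtain ⟨x, hx⟩ := exists_regular hfix hH (by omega)
  exact h.homog_of_orbit hk H x (by rw [hx, hc])

/-- subgroups of prime power order of `T` -/
theorem exists_pow_subgroup {T : Subgroup G} {p a : ℕ} (hp : p.Prime) (h : p ^ a ∣ Nat.card ↥T) :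
    ∃ H : Subgroup G, H ≤ T ∧ Nat.card H = p ^ a := by
  have hfp : Fact p.Prime := ⟨hp⟩
  obtain ⟨P, hP⟩ := Sylow.exists_subgroup_card_pow_prime p h
  exact ⟨P.map T.subtype, Subgroup.map_subtype_le _, by
    rw [Subgroup.card_map_of_injective T.subtype_injective, hP]⟩

/-- fixed points modulo `p` -/
theorem fix_mod [DecidableEq Ω] {g : G} {p : ℕ} [Fact p.Prime] (hg : g ^ p = 1) (S : Finset Ω)
    (hS : ∀ x ∈ S, g • x ∈ S) : S.card ≡ (S.filter (fun x => g • x = x)).card [MOD p] := by
  classical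
  let φ : ↥S → ↥S := fun x => ⟨g • x.1, hS x.1 x.2⟩
  have h1 : ∀ (m : ℕ) (x : ↥S), ((φ^[m]) x).1 = g ^ m • x.1 := by
    intro m
    induction m with
    | zero => intro x; simp
    | succ m ih =>
      intro x
      rw [Function.iterate_succ_apply', pow_succ', mul_smul, ← ih]
  have h2 : φ^[p ^ 1] = id := by
    funext x
    apply Subtype.ext
    rw [h1, pow_one, hg, one_smul]
    rfl
  have h3 := Equiv.Perm.card_fixedPoints_modEq (f := φ) (p := p) (n := 1) h2
  rw [Fintype.card_coe] at h3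
  have h4 : Fintype.card (Function.fixedPoints φ) = (S.filter (fun x => g • x = x)).card := by
    rw [← Fintype.card_coe]
    refine Fintype.card_congr ⟨fun x => ⟨x.1.1, Finset.mem_filter.2 ⟨x.1.2, congrArg Subtype.val x.2⟩⟩,
      fun x => ⟨⟨x.1, (Finset.mem_filter.1 x.2).1⟩, Subtype.ext (Finset.mem_filter.1 x.2).2⟩, ?_, ?_⟩
    · intro x; rfl
    · intro x; rfl
  rwa [h4] at h3

theorem ncard_fix_mod {g : G} {p : ℕ} [Fact p.Prime] (hg : g ^ p = 1) :
    Nat.card Ω ≡ {x : Ω | g • x = x}.ncard [MOD p] := by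
  classical
  have := Fintype.ofFinite Ω
  have h1 := fix_mod hg (Finset.univ : Finset Ω) (fun x _ => Finset.mem_univ _)
  rwa [Finset.card_univ, ← Nat.card_eq_fintype_card, ← Set.toFinset_ofPred, ← Set.ncard_eq_toFinset_card'] at h1

end regular

end Cfsg.Agent.H391.KPslA
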