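import Cfsg.Agent.H391.ProjFlat

/-!
# Sets of points separated by their ranks (helper391)

`proj_sets` : in a projective space of dimension at least 2, for every `k ≥ 4` with `2k ≤ n + 1` there are a
`(k-1)`-set `I` and a `k`-set `J` of points such that no permutation normalising `SL` maps `I` into `J`.
-/

set_option autoImplicit false

namespace Cfsg.Agent.H391.ProjFlat

open scoped LinearAlgebra.Projectivization
open Module

variable {F V : Type*} [Field F] [AddCommGroup V] [Module F V]

/-- number of points of a subspace of dimension `j` -/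
def th (q j : ℕ) : ℕ := ∑ i ∈ Finset.range j, q ^ i

theorem th_mul {q : ℕ} (hq : 1 ≤ q) (j : ℕ) : th q j * (q - 1) = q ^ j - 1 := by
  unfold th
  exact geom_sum_mul_of_one_le hq j

theorem th_succ (q j : ℕ) : th q (j + 1) = th q j + q ^ j := by
  unfold th
  rw [Finset.sum_range_succ]

theorem th_mono {q : ℕ} {i j : ℕ} (h : i ≤ j) : th q i ≤ th q j := by
  unfold th
  exact Finset.sum_le_sum_of_subset (Finset.range_mono h)

theorem two_pow_le_th {q : ℕ} (hq : 2 ≤ q) (j : ℕ) : 2 ^ j ≤ th q j + 1 := by
  induction j with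
  | zero => simp [th]
  | succ j ih =>
    rw [th_succ]
    have : 2 ^ j ≤ q ^ j := Nat.pow_le_pow_left hq j
    rw [pow_succ]
    omega

theorem card_pts' [Finite F] [Module.Finite F V] (W : Submodule F V) :
    Nat.card (pts W) = th (Nat.card F) (finrank F W) := by
  have hq : 1 < Nat.card F := Finite.one_lt_card
  have h1 := card_pts W
  rw [← th_mul (by omega : 1 ≤ Nat.card F)] at h1
  have hq1 : 0 < Nat.card F - 1 := by omega
  exact Nat.eq_of_mul_eq_mul_right hq1 h1

theorem card_all [Finite F] [Module.Finite F V] : Nat.card (ℙ F V) = th (Nat.card F) (finrank F V) := by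
  have h := card_pts' (⊤ : Submodule F V)
  rw [finrank_top] at h
  rw [← h]
  have : (pts (⊤ : Submodule F V)) = Set.univ := by
    ext p; simp [mem_pts]
  rw [this, Nat.card_congr (Equiv.Set.univ _)]

theorem exists_finrank_eq [Module.Finite F V] {j : ℕ} (hj : j ≤ finrank F V) :
    ∃ W : Submodule F V, finrank F W = j := by
  let b := finBasis F V
  have hli : LinearIndependent F (fun i : Fin j => b (Fin.castLE hj i)) :=
    b.linearIndependent.comp _ (Fin.castLE_injective hj)
  refine ⟨Submodule.span F (Set.range fun i : Fin j => b (Fin.castLE hj i)), ?_⟩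
  rw [finrank_span_eq_card hli, Fintype.card_fin]

theorem exists_indep [Module.Finite F V] {j : ℕ} (hj : j ≤ finrank F V) :
    ∃ v : Fin j → ℙ F V, Function.Injective v ∧ ∀ W : Submodule F V, ∀ s : Finset (Fin j), (∀ i ∈ s, v i ∈ pts W) →
      s.card ≤ finrank F W := by
  let b := finBasis F V
  have hli : LinearIndependent F (fun i : Fin j => b (Fin.castLE hj i)) :=
    b.linearIndependent.comp _ (Fin.castLE_injective hj)
  have hne : ∀ i : Fin j, b (Fin.castLE hj i) ≠ 0 := fun i => b.ne_zero _
  have hcard : ∀ W : Submodule F V, ∀ s : Finset (Fin j),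
      (∀ i ∈ s, Projectivization.mk F _ (hne i) ∈ pts W) → s.card ≤ finrank F W := by
    intro W s hs
    let v' : s → W := fun i => ⟨b (Fin.castLE hj i), (mk_le_iff (hne i) W).1 (hs i i.2)⟩
    have h1 : LinearIndependent F v' := by
      apply LinearIndependent.of_comp W.subtype
      exact hli.comp _ Subtype.val_injective
    have := h1.fintype_card_le_finrank
    rwa [Fintype.card_coe] at this
  refine ⟨fun i => Projectivization.mk F _ (hne i), ?_, hcard⟩
  intro i i' h
  by_contra hne'
  have h2 := hcard (Submodule.span F {b (Fin.castLE hj i)}) {i, i'} (by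
    intro x hx
    rw [Finset.mem_insert, Finset.mem_singleton] at hx
    rcases hx with rfl | rfl
    · rw [mem_pts, mk_le_iff]; exact Submodule.mem_span_singleton_self _
    · have h3 : Projectivization.mk F _ (hne i) = Projectivization.mk F _ (hne x) := h
      rw [← h3, mem_pts, mk_le_iff]; exact Submodule.mem_span_singleton_self _)
  rw [Finset.card_pair hne', finrank_span_singleton (hne i)] at h2
  omega

theorem proj_sets [Finite F] [Module.Finite F V] (h3 : 3 ≤ finrank F V) {k : ℕ} (hk : 4 ≤ k)
    (h2k : 2 * k ≤ Nat.card (ℙ F V) + 1) :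
    ∃ I J : Finset (ℙ F V), I.card = k - 1 ∧ J.card = k ∧
      ∀ γ : Equiv.Perm (ℙ F V), Nrm γ → Nrm γ⁻¹ → ∃ x ∈ I, γ x ∉ J := by
  classical
  have hfV : Finite V := Module.finite_of_finite F
  have hfP : Finite (ℙ F V) := inferInstance
  have := Fintype.ofFinite (ℙ F V)
  have hcf : Fintype.card (ℙ F V) = Nat.card (ℙ F V) := Nat.card_eq_fintype_card.symm
  set q := Nat.card F with hq
  set d := finrank F V with hd
  have hq2 : 2 ≤ q := Finite.one_lt_card
  have hcard : ∀ W : Submodule F V, (pts W).toFinset.card = th q (finrank F W) := by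
    intro W
    rw [Set.toFinset_card, ← card_pts' W, Nat.card_eq_fintype_card]
  have hall : Nat.card (ℙ F V) = th q d := card_all
  have hth3 : th q 3 = q ^ 2 + q + 1 := by simp [th, Finset.sum_range_succ]; ring
  have hth2 : th q 2 = q + 1 := by simp [th, Finset.sum_range_succ]; ring
  have hth1 : th q 1 = 1 := by simp [th]
  have hle3 : th q 3 ≤ th q d := th_mono h3
  by_cases hcase : k ≤ th q (d - 1)
  · have hex : ∃ j, k ≤ th q j := ⟨_, hcase⟩
    obtain ⟨j, hj, hmin⟩ : ∃ j, k ≤ th q j ∧ ∀ i < j, th q i < k :=
      ⟨Nat.find hex, Nat.find_spec hex, fun i hi => not_le.1 (Nat.find_min hex hi)⟩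
    have hjd : j ≤ d - 1 := by
      by_contra hcon
      have := hmin (d - 1) (by omega)
      omega
    have hj2 : 2 ≤ j := by
      by_contra hcon
      have : th q j ≤ th q 1 := th_mono (by omega)
      omega
    by_cases hsp : j + 2 ≤ k
    · -- case (A)
      obtain ⟨W, hW⟩ := exists_finrank_eq (F := F) (V := V) (j := j) (by omega)
      obtain ⟨v, hv, hind⟩ := exists_indep (F := F) (V := V) (j := j + 1) (by omega)
      obtain ⟨J, hJ1, hJ2⟩ := Finset.exists_subset_card_eq (s := (pts W).toFinset) (n := k)
        (by rw [hcard, hW]; exact hj)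
      have hvc : (Finset.univ.image v).card = j + 1 := by
        rw [Finset.card_image_of_injective _ hv, Finset.card_univ, Fintype.card_fin]
      obtain ⟨I, hI1, -, hI2⟩ := Finset.exists_subsuperset_card_eq (s := Finset.univ.image v) (t := Finset.univ)
        (n := k - 1) (Finset.subset_univ _) (by rw [hvc]; omega) (by rw [Finset.card_univ, hcf]; omega)
      refine ⟨I, J, hI2, hJ2, fun γ hγ hγ' => ?_⟩
      by_contra hcon
      push Not at hcon
      obtain ⟨W', hW', hiff⟩ := hγ'.exists_map h3 W
      have h1 := hind W' Finset.univ (fun i _ => by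
        have h2 : v i ∈ I := hI1 (Finset.mem_image_of_mem v (Finset.mem_univ i))
        have h4 := hJ1 (hcon _ h2)
        rw [Set.mem_toFinset, hiff] at h4
        have h5 : γ⁻¹ (γ (v i)) = v i := γ.symm_apply_apply _
        rwa [h5] at h4)
      rw [Finset.card_univ, Fintype.card_fin, hW', hW] at h1
      omega
    · -- case (C)
      have hk4 : k = 4 ∧ j = 3 ∧ q = 2 := by
        have h1 : th q (j - 1) < k := hmin _ (by omega)
        have h2 := two_pow_le_th hq2 (j - 1)
        have h4 : 2 ^ (j - 1) ≤ k := by omega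
        have h5 : j < 4 := by
          by_contra h6
          obtain ⟨i, rfl⟩ : ∃ i, j = i + 4 := ⟨j - 4, by omega⟩
          have h7 : i < 2 ^ i := Nat.lt_two_pow_self
          have h8 : i + 4 - 1 = i + 3 := by omega
          rw [h8, pow_add] at h4
          omega
        have h6 : j = 3 := by
          rcases (show j = 2 ∨ j = 3 by omega) with h | h
          · omega
          · exact h
        subst h6
        rw [show 3 - 1 = 2 from rfl, hth2] at h1
        omega
      obtain ⟨rfl, rfl, hq2'⟩ := hk4
      obtain ⟨W, hW⟩ := exists_finrank_eq (F := F) (V := V) (j := 2) (by omega)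
      obtain ⟨v, hv, hind⟩ := exists_indep (F := F) (V := V) (j := 4) (by omega)
      refine ⟨(pts W).toFinset, Finset.univ.image v, ?_, ?_, fun γ hγ hγ' => ?_⟩
      · rw [hcard, hW, hth2, hq2']
      · rw [Finset.card_image_of_injective _ hv, Finset.card_univ, Fintype.card_fin]
      · by_contra hcon
        push Not at hcon
        obtain ⟨W', hW', hiff⟩ := hγ.exists_map h3 W
        have h1 : ((pts W').toFinset).card ≤ (Finset.univ.filter fun i => v i ∈ pts W').card := by
          refine Finset.card_le_card_of_surjOn v ?_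
          intro p hp
          rw [Finset.mem_coe, Set.mem_toFinset] at hp
          have h2 : γ⁻¹ p ∈ (pts W).toFinset := by
            rw [Set.mem_toFinset, hiff]
            have : γ (γ⁻¹ p) = p := γ.apply_symm_apply p
            rwa [this]
          have h4 := hcon _ h2
          have h5 : γ (γ⁻¹ p) = p := γ.apply_symm_apply p
          rw [h5, Finset.mem_image] at h4
          obtain ⟨i, -, rfl⟩ := h4
          exact ⟨i, by simpa using hp, rfl⟩
        have h2 := hind W' (Finset.univ.filter fun i => v i ∈ pts W') (fun i hi => (Finset.mem_filter.1 hi).2)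
        rw [hcard, hW', hW, hth2, hq2'] at h1
        rw [hW', hW] at h2
        omega
  · -- case (B)
    push Not at hcase
    obtain ⟨H, hH⟩ := exists_finrank_eq (F := F) (V := V) (j := d - 1) (by omega)
    obtain ⟨L, hL⟩ := exists_finrank_eq (F := F) (V := V) (j := 2) (by omega)
    have hqq : q + 2 ≤ q ^ 2 := by nlinarith
    obtain ⟨I, hI1, -, hI2⟩ := Finset.exists_subsuperset_card_eq (s := (pts H).toFinset) (t := Finset.univ)
      (n := k - 1) (Finset.subset_univ _) (by rw [hcard, hH]; omega) (by rw [Finset.card_univ, hcf]; omega)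
    have hcomp : ((pts L).toFinsetᶜ).card = th q d - (q + 1) := by
      rw [Finset.card_compl, hcard, hL, hth2, hcf, hall]
    obtain ⟨J, hJ1, hJ2⟩ := Finset.exists_subset_card_eq (s := (pts L).toFinsetᶜ) (n := k)
      (by rw [hcomp]; omega)
    refine ⟨I, J, hI2, hJ2, fun γ hγ hγ' => ?_⟩
    by_contra hcon
    push Not at hcon
    obtain ⟨H', hH', hiff⟩ := hγ.exists_map h3 H
    have h1 := Submodule.finrank_sup_add_finrank_inf_eq H' L
    have h2 : finrank F ↥(H' ⊔ L) ≤ d := Submodule.finrank_le _
    have h4 : 0 < finrank F ↥(H' ⊓ L) := by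
      rw [hH', hH, hL] at h1
      omega
    obtain ⟨x, hx⟩ := Module.finrank_pos_iff_exists_ne_zero.1 h4
    have hx0 : (x : V) ≠ 0 := fun h => hx (Subtype.ext h)
    have h5 : Projectivization.mk F (x : V) hx0 ∈ pts H' := (mk_le_iff hx0 _).2 x.2.1
    have h6 : Projectivization.mk F (x : V) hx0 ∈ pts L := (mk_le_iff hx0 _).2 x.2.2
    have h7 : γ (γ⁻¹ (Projectivization.mk F (x : V) hx0)) = Projectivization.mk F (x : V) hx0 :=
      γ.apply_symm_apply _
    have h8 : γ⁻¹ (Projectivization.mk F (x : V) hx0) ∈ pts H := by rw [hiff, h7]; exact h5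
    have h9 := hJ1 (hcon _ (hI1 (Set.mem_toFinset.2 h8)))
    rw [h7, Finset.mem_compl, Set.mem_toFinset] at h9
    exact h9 h6

end Cfsg.Agent.H391.ProjFlat
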