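import Cfsg.Agent.H391.PslIdent
import Cfsg.Agent.H391.ProjSets

/-!
# 2-transitive groups with socle `PSL_d(q)`, `d ≥ 3`: separated sets (helper391)

* `ident` : `Ω` is the set of points of the projective space (in such a way that `SL_d(q)` acts through `T`);
* `perm_nrm` : every element of `G` acts on the points as a permutation normalising `SL_d(q)`;
* `sets` : for `d ≥ 3`, `k ≥ 4`, `2k ≤ n + 1` there are a `(k-1)`-set `I` and a `k`-set `J` such that no element of `G`
  maps `I` into `J`.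
-/

set_option autoImplicit false

namespace Cfsg.Agent.H391.PslRow

open Matrix MulAction Cfsg.Agent.H384.TwoTrans Cfsg.Agent.H391.ProjFlat
open scoped LinearAlgebra.Projectivization

universe u v

variable {G : Type u} {Ω : Type v} [Group G] [MulAction G Ω] {T : Subgroup G}

theorem ident (A : AS G Ω T) {F : Type*} [Field F] [Fintype F] {d : ℕ} (hd : 2 ≤ d)
    (e : Nonempty (↥T ≃* ProjectiveSpecialLinearGroup (Fin d) F))
    (hn : Nat.card Ω * (Fintype.card F - 1) = Fintype.card F ^ d - 1) :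
    ∃ (φ : SpecialLinearGroup (Fin d) F →* ↥T) (f : Ω ≃ ℙ F (Fin d → F)), Function.Surjective φ ∧
      ∀ (s : SpecialLinearGroup (Fin d) F) (x : Ω), f (φ s • x) = s • f x := by
  obtain ⟨e⟩ := e
  have := A.finΩ
  have := A.transitive
  refine PslIdent.exists_equiv_proj (by simpa using hd)
    (e.symm.toMonoidHom.comp (QuotientGroup.mk' _)) ?_ (by simpa using hn)
  exact e.symm.surjective.comp (QuotientGroup.mk'_surjective _)

/-- the permutation of the points induced by `g` -/
def pm {P : Type*} (f : Ω ≃ P) (g : G) : Equiv.Perm P := (f.symm.trans (MulAction.toPerm g)).trans f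

theorem pm_apply {P : Type*} (f : Ω ≃ P) (g : G) (x : P) : pm f g x = f (g • f.symm x) := rfl

theorem pm_inv {P : Type*} (f : Ω ≃ P) (g : G) : (pm f g)⁻¹ = pm f g⁻¹ := by
  rw [inv_eq_iff_mul_eq_one]
  ext x
  simp [pm_apply]

theorem perm_nrm (A : AS G Ω T) {F : Type*} [Field F] {d : ℕ}
    {φ : SpecialLinearGroup (Fin d) F →* ↥T} {f : Ω ≃ ℙ F (Fin d → F)} (hφ : Function.Surjective φ)
    (hf : ∀ (s : SpecialLinearGroup (Fin d) F) (x : Ω), f (φ s • x) = s • f x) (g : G) : Nrm (pm f g) := by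
  have hT := A.normal
  intro h hh
  let s₀ : _root_.SpecialLinearGroup F (Fin d → F) := ⟨h, hh⟩
  let s : SpecialLinearGroup (Fin d) F := SpecialLinearGroup.toLin'_equiv.symm s₀
  have hs : ∀ x : ℙ F (Fin d → F), h • x = s • x := by
    intro x
    rw [Projectivization.matrixSpecialLinearGroup_smul_def, MulEquiv.apply_symm_apply]
    rfl
  obtain ⟨s', hs'⟩ := hφ ⟨g * φ s * g⁻¹, hT.conj_mem _ (φ s).2 g⟩
  refine ⟨(SpecialLinearGroup.toLin'_equiv s').1, (SpecialLinearGroup.toLin'_equiv s').2, fun x => ?_⟩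
  have h1 : (SpecialLinearGroup.toLin'_equiv s').1 • (pm f g x) = s' • pm f g x := by
    rw [Projectivization.matrixSpecialLinearGroup_smul_def]
    rfl
  rw [h1, hs, pm_apply, pm_apply, ← hf, hs']
  congr 1
  have h2 : f.symm (s • x) = φ s • f.symm x := by
    rw [Equiv.symm_apply_eq, hf, Equiv.apply_symm_apply]
  rw [h2]
  change g • (φ s : G) • f.symm x = (g * φ s * g⁻¹) • g • f.symm x
  simp only [mul_smul, inv_smul_smul]

/-- **Row `PSL_d(q)`, `d ≥ 3`.** -/
theorem sets [Fintype Ω] [DecidableEq Ω] (A : AS G Ω T) {F : Type*} [Field F] [Fintype F] {d : ℕ} (hd : 3 ≤ d)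
    (e : Nonempty (↥T ≃* ProjectiveSpecialLinearGroup (Fin d) F))
    (hn : Nat.card Ω * (Fintype.card F - 1) = Fintype.card F ^ d - 1) {k : ℕ} (hk : 4 ≤ k)
    (h2k : 2 * k ≤ Nat.card Ω + 1) :
    ∃ I J : Finset Ω, I.card = k - 1 ∧ J.card = k ∧ ∀ g : G, ∃ x ∈ I, g • x ∉ J := by
  classical
  obtain ⟨φ, f, hφ, hf⟩ := ident A (by omega) e hn
  obtain ⟨I, J, hI, hJ, h⟩ := proj_sets (F := F) (V := Fin d → F) (by simpa using hd) hk
    (by rw [← Nat.card_congr f]; exact h2k)
  refine ⟨I.map f.symm.toEmbedding, J.map f.symm.toEmbedding, by rw [Finset.card_map, hI],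
    by rw [Finset.card_map, hJ], fun g => ?_⟩
  obtain ⟨x, hx, hxJ⟩ := h (pm f g) (perm_nrm A hφ hf g) (by rw [pm_inv]; exact perm_nrm A hφ hf g⁻¹)
  refine ⟨f.symm x, Finset.mem_map_of_mem _ hx, ?_⟩
  intro hcon
  apply hxJ
  rw [Finset.mem_map] at hcon
  obtain ⟨y, hy, hyx⟩ := hcon
  rw [pm_apply]
  have : f (g • f.symm x) = y := by
    rw [← hyx]
    exact f.apply_symm_apply y
  rw [this]
  exact hy

end Cfsg.Agent.H391.PslRow
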