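import Cfsg.Agent.H391.KPslA
import Cfsg.Agent.H391.PslRow
import Cfsg.Agent.S0813
import Cfsg.Agent.ClassicalGeometry.PSL2Basic

/-!
# 2-transitive groups with socle `PSL_2(q)`: fixed points and orders (helper391)
-/

set_option autoImplicit false

namespace Cfsg.Agent.H391.KPslB

open Matrix MulAction Cfsg.Agent.H384.TwoTrans
open scoped LinearAlgebra.Projectivization

section proj

variable {F : Type*} [Field F]

theorem mk_eq_of_det {v w : Fin 2 → F} (hv : v ≠ 0) (hw : w ≠ 0) (h : v 0 * w 1 = v 1 * w 0) :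
    Projectivization.mk F v hv = Projectivization.mk F w hw := by
  rw [Projectivization.mk_eq_mk_iff']
  by_cases h0 : w 0 = 0
  · have h1 : w 1 ≠ 0 := by
      intro h1
      apply hw
      ext i
      fin_cases i
      · exact h0
      · exact h1
    refine ⟨v 1 / w 1, ?_⟩
    have h2 : v 0 = 0 := by
      rw [h0, mul_zero] at h
      exact (mul_eq_zero.1 h).resolve_right h1
    ext i
    fin_cases i
    · simp [h0, h2]
    · simp [h1]
  · refine ⟨v 0 / w 0, ?_⟩
    ext i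
    fin_cases i
    · simp [h0]
    · simp only [Pi.smul_apply, smul_eq_mul, Fin.mk_one]
      field_simp
      linear_combination h

theorem smul_mk (s : SpecialLinearGroup (Fin 2) F) {v : Fin 2 → F} (hv : v ≠ 0) (hw : s.1 *ᵥ v ≠ 0) :
    s • Projectivization.mk F v hv = Projectivization.mk F (s.1 *ᵥ v) hw := by
  rw [Projectivization.smul_mk]
  rfl

theorem mulVec_ne_zero (s : SpecialLinearGroup (Fin 2) F) {v : Fin 2 → F} (hv : v ≠ 0) : s.1 *ᵥ v ≠ 0 :=
  fun h => hv (Matrix.eq_zero_of_mulVec_eq_zero (M := s.1) (by rw [s.2]; exact one_ne_zero) h)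

theorem smul_eq_iff (s : SpecialLinearGroup (Fin 2) F) {v w : Fin 2 → F} (hv : v ≠ 0) (hw : w ≠ 0) :
    s • Projectivization.mk F v hv = Projectivization.mk F w hw ↔
      (s.1 0 0 * v 0 + s.1 0 1 * v 1) * w 1 = (s.1 1 0 * v 0 + s.1 1 1 * v 1) * w 0 := by
  have hsv := mulVec_ne_zero s hv
  have h0 : (s.1 *ᵥ v) 0 = s.1 0 0 * v 0 + s.1 0 1 * v 1 := by
    simp [mulVec, dotProduct, Fin.sum_univ_two]
  have h1 : (s.1 *ᵥ v) 1 = s.1 1 0 * v 0 + s.1 1 1 * v 1 := by
    simp [mulVec, dotProduct, Fin.sum_univ_two]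
  rw [smul_mk s hv hsv, ← h0, ← h1]
  constructor
  · intro h
    rw [Projectivization.mk_eq_mk_iff'] at h
    obtain ⟨c, hc⟩ := h
    rw [← hc]
    simp only [Pi.smul_apply, smul_eq_mul]
    ring
  · intro h
    exact mk_eq_of_det hsv hw h

theorem eq_iff {v w : Fin 2 → F} (hv : v ≠ 0) (hw : w ≠ 0) :
    Projectivization.mk F v hv = Projectivization.mk F w hw ↔ v 0 * w 1 = v 1 * w 0 := by
  have := smul_eq_iff (1 : SpecialLinearGroup (Fin 2) F) hv hw
  rw [one_smul] at this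
  simpa using this

theorem scalar_smul {s : SpecialLinearGroup (Fin 2) F} (h01 : s.1 0 1 = 0) (h10 : s.1 1 0 = 0)
    (h : s.1 0 0 = s.1 1 1) (x : ℙ F (Fin 2 → F)) : s • x = x := by
  induction x using Projectivization.ind with
  | h v hv =>
    rw [smul_eq_iff s hv hv, h01, h10, h]
    ring

theorem trivial_of_three {s : SpecialLinearGroup (Fin 2) F} {x y z : ℙ F (Fin 2 → F)} (hxy : x ≠ y) (hxz : x ≠ z)
    (hyz : y ≠ z) (hx : s • x = x) (hy : s • y = y) (hz : s • z = z) (w : ℙ F (Fin 2 → F)) : s • w = w := by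
  induction x using Projectivization.ind with
  | h u hu =>
  induction y using Projectivization.ind with
  | h v hv =>
  induction z using Projectivization.ind with
  | h t ht =>
    rw [smul_eq_iff] at hx hy hz
    rw [Ne, eq_iff] at hxy hxz hyz
    have hD : (u 0 * v 1 - u 1 * v 0) * (u 0 * t 1 - u 1 * t 0) * (v 0 * t 1 - v 1 * t 0) ≠ 0 :=
      mul_ne_zero (mul_ne_zero (sub_ne_zero.2 hxy) (sub_ne_zero.2 hxz)) (sub_ne_zero.2 hyz)
    have h10 : s.1 1 0 = 0 := by
      apply (mul_eq_zero.1 (?_ : s.1 1 0 * _ = 0)).resolve_right hD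
      linear_combination (-(v 1 * t 1 * (v 0 * t 1 - v 1 * t 0))) * hx +
        (u 1 * t 1 * (u 0 * t 1 - u 1 * t 0)) * hy - (u 1 * v 1 * (u 0 * v 1 - u 1 * v 0)) * hz
    have h01 : s.1 0 1 = 0 := by
      apply (mul_eq_zero.1 (?_ : s.1 0 1 * _ = 0)).resolve_right hD
      linear_combination (v 0 * t 0 * (v 0 * t 1 - v 1 * t 0)) * hx -
        (u 0 * t 0 * (u 0 * t 1 - u 1 * t 0)) * hy + (u 0 * v 0 * (u 0 * v 1 - u 1 * v 0)) * hz
    refine scalar_smul h01 h10 ?_ w
    rw [h01, h10] at hx hy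
    rw [← sub_eq_zero]
    by_contra h0
    have hu2 : u 0 * u 1 = 0 := by
      apply (mul_eq_zero.1 (?_ : (s.1 0 0 - s.1 1 1) * (u 0 * u 1) = 0)).resolve_left h0
      linear_combination hx
    have hv2 : v 0 * v 1 = 0 := by
      apply (mul_eq_zero.1 (?_ : (s.1 0 0 - s.1 1 1) * (v 0 * v 1) = 0)).resolve_left h0
      linear_combination hy
    rw [h01, h10] at hz
    have ht2 : t 0 * t 1 = 0 := by
      apply (mul_eq_zero.1 (?_ : (s.1 0 0 - s.1 1 1) * (t 0 * t 1) = 0)).resolve_left h0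
      linear_combination hz
    rcases mul_eq_zero.1 hu2 with a | a <;> rcases mul_eq_zero.1 hv2 with b | b <;>
      rcases mul_eq_zero.1 ht2 with c | c <;> simp_all

end proj

section main

universe u v

variable {G : Type u} {Ω : Type v} [Group G] [MulAction G Ω] {T : Subgroup G}

theorem ident₂ (A : AS G Ω T) {F : Type*} [Field F] [Fintype F]
    (e : Nonempty (↥T ≃* ProjectiveSpecialLinearGroup (Fin 2) F)) (hn : Nat.card Ω = Fintype.card F + 1) :
    ∃ (φ : SpecialLinearGroup (Fin 2) F →* ↥T) (f : Ω ≃ ℙ F (Fin 2 → F)), Function.Surjective φ ∧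
      ∀ (s : SpecialLinearGroup (Fin 2) F) (x : Ω), f (φ s • x) = s • f x := by
  have hq : 1 < Fintype.card F := Fintype.one_lt_card
  refine PslRow.ident A le_rfl e ?_
  rw [hn]
  obtain ⟨m, hm⟩ := Nat.exists_eq_add_of_lt hq
  rw [hm]
  have h1 : 1 + m + 1 - 1 = m + 1 := by omega
  rw [h1]
  have h2 : (1 + m + 1) ^ 2 = (1 + m + 1 + 1) * (m + 1) + 1 := by ring
  rw [h2, Nat.add_sub_cancel]

theorem fix_le_two (A : AS G Ω T) {F : Type*} [Field F] [Fintype F]
    (e : Nonempty (↥T ≃* ProjectiveSpecialLinearGroup (Fin 2) F)) (hn : Nat.card Ω = Fintype.card F + 1) :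
    ∀ t ∈ T, t ≠ 1 → {x : Ω | t • x = x}.ncard ≤ 2 := by
  obtain ⟨φ, f, hφ, hf⟩ := ident₂ A e hn
  have := A.finΩ
  have := A.faithful
  intro t ht h1
  by_contra hcon
  push Not at hcon
  obtain ⟨x, y, z, hx, hy, hz, hxy, hxz, hyz⟩ := (Set.two_lt_ncard_iff (Set.toFinite _)).1 hcon
  obtain ⟨s, hs⟩ := hφ ⟨t, ht⟩
  have key : ∀ w : Ω, t • w = w ↔ s • f w = f w := by
    intro w
    rw [← hf, hs]
    exact (f.injective.eq_iff (a := (⟨t, ht⟩ : ↥T) • w) (b := w)).symm
  apply h1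
  apply eq_of_smul_eq_smul (α := Ω)
  intro w
  rw [one_smul, key]
  exact trivial_of_three (fun h => hxy (f.injective h)) (fun h => hxz (f.injective h))
    (fun h => hyz (f.injective h)) ((key x).1 hx) ((key y).1 hy) ((key z).1 hz) _

theorem card_T {F : Type*} [Field F] [Fintype F]
    (e : Nonempty (↥T ≃* ProjectiveSpecialLinearGroup (Fin 2) F)) :
    Nat.card ↥T * Nat.gcd 2 (Fintype.card F - 1) = Fintype.card F * (Fintype.card F ^ 2 - 1) := by
  obtain ⟨e⟩ := e
  rw [Nat.card_congr e.toEquiv]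
  exact Cfsg.Agent.ClassicalGeometry.PSL2Basic.card_PSL2_gcd F

theorem card_G (A : AS G Ω T) {F : Type*} [Field F] [Fintype F]
    (e : Nonempty (↥T ≃* ProjectiveSpecialLinearGroup (Fin 2) F)) (h4 : 4 ≤ Fintype.card F) {p f : ℕ}
    (hp : p.Prime) (hf : 1 ≤ f) (hF : Fintype.card F = p ^ f) :
    ∃ d, d ∣ Nat.gcd 2 (Fintype.card F - 1) * f ∧ Nat.card G = d * Nat.card ↥T := by
  have : Fact p.Prime := ⟨hp⟩
  have := A.finG
  have h1 := Cfsg.Agent.H436.TT.card_dvd_aut A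
  obtain ⟨e⟩ := e
  have hcT : Nat.card ↥T = Nat.card (Matrix.ProjectiveSpecialLinearGroup (Fin 2) F) := Nat.card_congr e.toEquiv
  have h2 : Nat.card (MulAut (Matrix.ProjectiveSpecialLinearGroup (Fin 2) F)) =
      Nat.gcd 2 (Fintype.card F - 1) * f * Nat.card (Matrix.ProjectiveSpecialLinearGroup (Fin 2) F) := by
    rw [Cfsg.Agent.S0813.result p f hf hF 2 le_rfl (fun _ => by rw [← hF]; exact h4), if_pos rfl,
      Cfsg.Agent.ClassicalGeometry.PSL2Basic.card_PGL2, ← Cfsg.Agent.ClassicalGeometry.PSL2Basic.card_PSL2_gcd]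
    ring
  rw [Cfsg.Agent.H436.TT.card_mulAut_congr e, h2, ← hcT] at h1
  obtain ⟨d, hd⟩ := Subgroup.card_subgroup_dvd_card T
  have hpos : 0 < Nat.card ↥T := Nat.card_pos
  refine ⟨d, ?_, by rw [hd, mul_comm]⟩
  rw [hd, mul_comm (Nat.card ↥T) d] at h1
  exact Nat.dvd_of_mul_dvd_mul_right hpos h1

end main

end Cfsg.Agent.H391.KPslB
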