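import Cfsg.Agent.H391.KPslA

/-!
# Row `PSL_2(q)` of S3564: abstract special cases (helper391)
-/

set_option autoImplicit false
set_option linter.unusedSectionVars false

namespace Cfsg.Agent.H391.KPslC

open MulAction Cfsg.Agent.H397.KHom Cfsg.Agent.H384.TwoTrans Cfsg.Agent.H391.KOrb Cfsg.Agent.H391.KPslA
open scoped Pointwise

variable {G Ω : Type*} [Group G] [MulAction G Ω] [DecidableEq Ω] [Fintype Ω] {T : Subgroup G}

theorem stab_mem {g : G} {I : Finset Ω} (h : ∀ x ∈ I, g • x ∈ I) : g • I = I :=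
  Finset.eq_of_subset_of_card_le (smul_subset_iff.2 h) (by rw [Finset.card_smul_finset])

/-- nine points -/
theorem homog_nine [Finite G] (hfix : ∀ t ∈ T, t ≠ 1 → {x : Ω | t • x = x}.ncard ≤ 2)
    (hn : Fintype.card Ω = 9) (hT : Nat.card ↥T = 504) : Homog G Ω 4 := by
  classical
  have key : ∀ I : Finset Ω, I.card = 4 → Nat.card ↥(T ⊓ stabilizer G I) ≤ 4 := by
    intro I hI
    obtain ⟨a, ha⟩ : ∃ a, a ∈ I := Finset.card_pos.1 (by omega)
    have h1 : (T ⊓ stabilizer G I) ⊓ stabilizer G a = ⊥ := by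
      by_contra hcon
      have hne : Nat.card ↥((T ⊓ stabilizer G I) ⊓ stabilizer G a) ≠ 1 := by
        intro h
        exact hcon (Subgroup.card_eq_one.1 h)
      obtain ⟨p, hp, hpd⟩ := Nat.exists_prime_and_dvd hne
      have hfp : Fact p.Prime := ⟨hp⟩
      obtain ⟨⟨g, hgm⟩, hg⟩ := exists_prime_orderOf_dvd_card' p hpd
      rw [Subgroup.orderOf_mk] at hg
      rw [Subgroup.mem_inf, Subgroup.mem_inf, mem_stabilizer_iff, mem_stabilizer_iff] at hgm
      obtain ⟨⟨hgT, hgI⟩, hga⟩ := hgm
      have hg1 : g ≠ 1 := by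
        rintro rfl
        rw [orderOf_one] at hg
        exact hp.one_lt.ne hg
      have hgp : g ^ p = 1 := by rw [← hg, pow_orderOf_eq_one]
      have h2 := hfix g hgT hg1
      have h3 := ncard_fix_mod (Ω := Ω) hgp
      rw [Nat.card_eq_fintype_card, hn] at h3
      have hst : ∀ x ∈ I.erase a, g • x ∈ I.erase a := by
        intro x hx
        rw [Finset.mem_erase] at hx ⊢
        refine ⟨fun h => hx.1 ?_, ?_⟩
        · rw [← hga] at h
          exact smul_left_cancel g h
        · rw [← hgI]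
          exact Finset.smul_mem_smul_finset hx.2
      have h4 := fix_mod hgp (I.erase a) hst
      rw [Finset.card_erase_of_mem ha, hI] at h4
      obtain ⟨c3, hc3⟩ : ∃ c3, ((I.erase a).filter (fun x => g • x = x)).card = c3 := ⟨_, rfl⟩
      obtain ⟨c, hc⟩ : ∃ c, {x : Ω | g • x = x}.ncard = c := ⟨_, rfl⟩
      have h5 : c3 + 1 ≤ c := by
        rw [← hc, ← hc3]
        have h6 : insert a ((I.erase a).filter (fun x => g • x = x)) ⊆
            Finset.univ.filter (fun x => g • x = x) := by
          intro x hx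
          rw [Finset.mem_insert] at hx
          rcases hx with rfl | hx
          · simp [hga]
          · simp [(Finset.mem_filter.1 hx).2]
        have h7 := Finset.card_le_card h6
        rw [Finset.card_insert_of_notMem (by simp)] at h7
        rwa [Set.ncard_eq_toFinset_card', Set.toFinset_ofPred]
      rw [hc3] at h4
      rw [hc] at h2 h3
      have h8 : c3 = 0 ∨ c3 = 1 := by omega
      rcases h8 with rfl | rfl
      · have h9 : p ∣ 3 := by
          have := (Nat.modEq_zero_iff_dvd.1 h4)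
          simpa using this
        rw [Nat.prime_dvd_prime_iff_eq hp Nat.prime_three] at h9
        subst h9
        have h10 : c = 1 ∨ c = 2 := by omega
        rcases h10 with rfl | rfl <;> simp [Nat.ModEq] at h3
      · have h9 : p ∣ 2 := by
          have := (Nat.modEq_iff_dvd' (by norm_num)).1 h4.symm
          simpa using this
        rw [Nat.prime_dvd_prime_iff_eq hp Nat.prime_two] at h9
        subst h9
        have h10 : c = 2 := by omega
        subst h10
        simp [Nat.ModEq] at h3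
    have h2 := ncard_orbit_mul (T ⊓ stabilizer G I) a
    rw [h1, Subgroup.card_bot, mul_one] at h2
    rw [← h2]
    have h3 : orbit ↥(T ⊓ stabilizer G I) a ⊆ (I : Set Ω) := by
      rintro _ ⟨⟨g, hgT, hgI⟩, rfl⟩
      have hgI' : g • I = I := hgI
      change g • a ∈ (I : Set Ω)
      rw [Finset.mem_coe, ← hgI']
      exact Finset.smul_mem_smul_finset ha
    have h4 := Set.ncard_le_ncard h3 (Set.toFinite _)
    rwa [Set.ncard_coe_finset, hI] at h4
  refine homog_of_exists fun I J hI hJ => ?_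
  have h1 := ncard_orbit_mul T I
  rw [hT] at h1
  have h2 := key I hI
  have h3 : 126 ≤ (orbit T I).ncard := by
    by_contra hcon
    push Not at hcon
    have : (orbit T I).ncard * Nat.card ↥(T ⊓ stabilizer G I) ≤ 125 * 4 := Nat.mul_le_mul (by omega) h2
    omega
  have h4 : orbit T I ⊆ ((Finset.powersetCard 4 (Finset.univ : Finset Ω) : Finset (Finset Ω)) : Set (Finset Ω)) := by
    rintro _ ⟨g, rfl⟩
    rw [Finset.mem_coe, Finset.mem_powersetCard_univ]
    change ((g : G) • I).card = 4
    rw [Finset.card_smul_finset, hI]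
  have h5 : orbit T I = ((Finset.powersetCard 4 (Finset.univ : Finset Ω) : Finset (Finset Ω)) : Set (Finset Ω)) := by
    refine Set.eq_of_subset_of_ncard_le h4 ?_ (Set.toFinite _)
    rw [Set.ncard_coe_finset, Finset.card_powersetCard, Finset.card_univ, hn]
    exact h3
  have h6 : J ∈ orbit T I := by
    rw [h5, Finset.mem_coe, Finset.mem_powersetCard_univ]
    exact hJ
  obtain ⟨g, hg⟩ := h6
  exact ⟨g, hg⟩

/-- number of elements with exactly one fixed point -/
theorem card_one_fix [Finite G] [IsPretransitive ↥T Ω]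
    (hfix : ∀ t ∈ T, t ≠ 1 → {x : Ω | t • x = x}.ncard ≤ 2) (hn : 2 ≤ Fintype.card Ω) :
    {t : G | t ∈ T ∧ {x : Ω | t • x = x}.ncard = 1}.ncard ≤ Fintype.card Ω * (Fintype.card Ω - 2) := by
  classical
  have := Fintype.ofFinite ↥T
  have hne : Nonempty Ω := Fintype.card_pos_iff.1 (by omega)
  have i1 : ∀ t : ↥T, Fintype (fixedBy Ω t) := fun t => Fintype.ofFinite _
  have i2 : ∀ t : ↥T, Fintype (fixedBy (Ω × Ω) t) := fun t => Fintype.ofFinite _
  have i3 : Fintype (Quotient (orbitRel ↥T Ω)) := Fintype.ofFinite _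
  have i4 : Fintype (Quotient (orbitRel ↥T (Ω × Ω))) := Fintype.ofFinite _
  have h1 := sum_card_fixedBy_eq_card_orbits_mul_card_group ↥T Ω
  have h2 := sum_card_fixedBy_eq_card_orbits_mul_card_group ↥T (Ω × Ω)
  let fx : ↥T → ℕ := fun t => Fintype.card (fixedBy Ω t)
  have hfx : ∀ t : ↥T, fx t = {x : Ω | (t : G) • x = x}.ncard := by
    intro t
    change Fintype.card (fixedBy Ω t) = _
    rw [← Nat.card_eq_fintype_card, Nat.card_coe_set_eq]
    rfl
  have hfx2 : ∀ t : ↥T, Fintype.card (fixedBy (Ω × Ω) t) = fx t * fx t := by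
    intro t
    change _ = Fintype.card (fixedBy Ω t) * Fintype.card (fixedBy Ω t)
    rw [← Fintype.card_prod]
    refine Fintype.card_congr ⟨fun x => (⟨x.1.1, congrArg Prod.fst x.2⟩, ⟨x.1.2, congrArg Prod.snd x.2⟩),
      fun y => ⟨(y.1.1, y.2.1), Prod.ext y.1.2 y.2.2⟩, fun x => rfl, fun y => rfl⟩
  have h3 : Fintype.card (Quotient (orbitRel ↥T Ω)) = 1 := by
    rw [Fintype.card_eq_one_iff_nonempty_unique]
    refine ⟨⟨⟨Quotient.mk'' (Classical.arbitrary Ω)⟩, fun q => ?_⟩⟩
    induction q using Quotient.inductionOn' with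
    | h y =>
      apply Quotient.sound'
      obtain ⟨g, hg⟩ := exists_smul_eq ↥T (Classical.arbitrary Ω) y
      exact ⟨g, hg⟩
  have h4 : 2 ≤ Fintype.card (Quotient (orbitRel ↥T (Ω × Ω))) := by
    obtain ⟨a, b, hab⟩ := (Fintype.one_lt_card_iff.1 (show 1 < Fintype.card Ω by omega))
    change 1 < _
    rw [Fintype.one_lt_card_iff]
    refine ⟨Quotient.mk'' (a, a), Quotient.mk'' (a, b), fun h => hab ?_⟩
    obtain ⟨g, hg⟩ := Quotient.exact' h
    have hg1 : g • a = a := congrArg Prod.fst hg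
    have hg2 : g • b = a := congrArg Prod.snd hg
    exact smul_left_cancel g (hg1.trans hg2.symm)
  rw [h3, one_mul] at h1
  have h5 : 2 * Fintype.card ↥T ≤ ∑ t : ↥T, fx t * fx t := by
    rw [← Finset.sum_congr rfl (fun t _ => hfx2 t), h2]
    exact Nat.mul_le_mul_right _ h4
  have h6 : ∑ t : ↥T, fx t = Fintype.card ↥T := h1
  have hfx1 : fx 1 = Fintype.card Ω := by
    rw [hfx]
    have : {x : Ω | ((1 : ↥T) : G) • x = x} = Set.univ := by
      ext x
      simp
    rw [this, Set.ncard_univ, Nat.card_eq_fintype_card]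
  have h7 := Finset.add_sum_erase Finset.univ fx (Finset.mem_univ (1 : ↥T))
  have h8 := Finset.add_sum_erase Finset.univ (fun t => fx t * fx t) (Finset.mem_univ (1 : ↥T))
  rw [h6, hfx1] at h7
  simp only [hfx1] at h8
  -- the elements with one fixed point
  let S : Finset ↥T := (Finset.univ.erase 1).filter (fun t => fx t = 1)
  have h9 : S.card + ∑ t ∈ Finset.univ.erase (1 : ↥T), fx t * fx t = 2 * ∑ t ∈ Finset.univ.erase (1 : ↥T), fx t := by
    rw [Finset.card_filter, ← Finset.sum_add_distrib, Finset.mul_sum]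
    refine Finset.sum_congr rfl fun t ht => ?_
    have h10 : fx t ≤ 2 := by
      rw [hfx]
      refine hfix t t.2 ?_
      intro h
      exact (Finset.mem_erase.1 ht).1 (Subtype.ext h)
    interval_cases fx t <;> simp
  have h10 : {t : G | t ∈ T ∧ {x : Ω | t • x = x}.ncard = 1}.ncard = S.card := by
    have h11 : {t : G | t ∈ T ∧ {x : Ω | t • x = x}.ncard = 1} =
        ((S.map ⟨Subtype.val, Subtype.val_injective⟩ : Finset G) : Set G) := by
      ext t
      simp only [Set.mem_ofPred_eq, Finset.coe_map, Function.Embedding.coeFn_mk, Set.mem_image, Finset.mem_coe]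
      constructor
      · rintro ⟨ht, h1⟩
        refine ⟨⟨t, ht⟩, ?_, rfl⟩
        rw [Finset.mem_filter, Finset.mem_erase]
        have h12 : fx ⟨t, ht⟩ = 1 := by rw [hfx]; exact h1
        refine ⟨⟨fun h0 => ?_, Finset.mem_univ _⟩, h12⟩
        rw [h0, hfx1] at h12
        omega
      · rintro ⟨t, ht, rfl⟩
        exact ⟨t.2, by rw [← hfx]; exact (Finset.mem_filter.1 ht).2⟩
    rw [h11, Set.ncard_coe_finset, Finset.card_map]
  rw [h10]
  obtain ⟨n, hn'⟩ : ∃ n, Fintype.card Ω = n + 2 := ⟨Fintype.card Ω - 2, by omega⟩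
  rw [hn'] at h7 h8 ⊢
  rw [Nat.add_sub_cancel]
  nlinarith

end Cfsg.Agent.H391.KPslC
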