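import Cfsg.Agent.H391.KPslC

/-!
# Row `PSL_2(q)` of S3564: elements of order 3 with one fixed point; sharply 3-transitive socle (helper391)
-/

set_option autoImplicit false
set_option linter.unusedSectionVars false
set_option linter.unusedSimpArgs false

namespace Cfsg.Agent.H391.KPslC

open MulAction Cfsg.Agent.H397.KHom Cfsg.Agent.H384.TwoTrans Cfsg.Agent.H391.KOrb Cfsg.Agent.H391.KPslA
open scoped Pointwise

variable {G Ω : Type*} [Group G] [MulAction G Ω] [DecidableEq Ω] [Fintype Ω] {T : Subgroup G}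

/-- the fixed points and an orbit of an element of order 3 -/
def F3 (u : G) (y : Ω) : Finset Ω := Finset.univ.filter (fun z => u • z = z) ∪ {y, u • y, u • u • y}

theorem F3_conj (g u : G) (y : Ω) : F3 (g * u * g⁻¹) (g • y) = g • F3 u y := by
  unfold F3
  rw [Finset.smul_finset_union, Finset.smul_finset_insert, Finset.smul_finset_insert, Finset.smul_finset_singleton]
  congr 1
  · ext z
    rw [← Finset.inv_smul_mem_iff]
    simp only [Finset.mem_filter, Finset.mem_univ, true_and, mul_smul]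
    rw [smul_eq_iff_eq_inv_smul]
  · simp [mul_smul]

theorem F3_smul {t : G} (ht : t ^ 3 = 1) (a : Ω) : F3 t (t • a) = F3 t a := by
  have h3 : ∀ z : Ω, t • t • t • z = z := by
    intro z
    rw [← mul_smul, ← mul_smul]
    have : t * t * t = 1 := by rw [← ht, pow_succ, pow_two]
    rw [this, one_smul]
  unfold F3
  rw [h3]
  congr 1
  ext z
  simp only [Finset.mem_insert, Finset.mem_singleton]
  tauto

theorem F3_pow_smul {t : G} (ht : t ^ 3 = 1) (a : Ω) (j : ℕ) : F3 t (t ^ j • a) = F3 t a := by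
  induction j with
  | zero => rw [pow_zero, one_smul]
  | succ j ih => rw [pow_succ', mul_smul, F3_smul ht, ih]

theorem F3_sq {t : G} (ht : t ^ 3 = 1) (a : Ω) : F3 (t * t) a = F3 t a := by
  have h3 : ∀ z : Ω, t • t • t • z = z := by
    intro z
    rw [← mul_smul, ← mul_smul]
    have : t * t * t = 1 := by rw [← ht, pow_succ, pow_two]
    rw [this, one_smul]
  unfold F3
  congr 1
  · ext z
    simp only [Finset.mem_filter, Finset.mem_univ, true_and, mul_smul]
    constructor
    · intro h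
      have := h3 z
      rwa [h] at this
    · intro h
      rw [h, h]
  · ext z
    simp only [Finset.mem_insert, Finset.mem_singleton, mul_smul, h3]
    tauto

theorem orbit_three [Finite G] (hTn : T.Normal) [IsPretransitive ↥T Ω]
    (hfix : ∀ t ∈ T, t ≠ 1 → {x : Ω | t • x = x}.ncard ≤ 2) (hn : Fintype.card Ω % 3 = 1)
    (h4 : 4 ≤ Fintype.card Ω) (h3 : 3 ∣ Nat.card ↥T) :
    ∃ I : Finset Ω, I.card = 4 ∧
      6 * (orbit G I).ncard ≤ Fintype.card Ω * (Fintype.card Ω - 2) * (Fintype.card Ω - 1) := by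
  classical
  obtain ⟨⟨t, htT⟩, ht⟩ := exists_prime_orderOf_dvd_card' 3 h3
  rw [Subgroup.orderOf_mk] at ht
  have ht3 : t ^ 3 = 1 := by rw [← ht, pow_orderOf_eq_one]
  have ht1 : t ≠ 1 := by
    rintro rfl
    rw [orderOf_one] at ht
    omega
  -- one fixed point
  have one_fix : ∀ u ∈ T, u ^ 3 = 1 → u ≠ 1 → {x : Ω | u • x = x}.ncard = 1 := by
    intro u hu h3 h1
    have h5 := hfix u hu h1
    have h6 := ncard_fix_mod (Ω := Ω) (p := 3) h3
    rw [Nat.card_eq_fintype_card] at h6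
    have h7 : Fintype.card Ω % 3 = {x : Ω | u • x = x}.ncard % 3 := h6
    omega
  have hcount : ∀ u : G, {x : Ω | u • x = x}.ncard = (Finset.univ.filter (fun z : Ω => u • z = z)).card := by
    intro u
    rw [Set.ncard_eq_toFinset_card', Set.toFinset_ofPred]
  have hfx := one_fix t htT ht3 ht1
  rw [hcount, Finset.card_eq_one] at hfx
  obtain ⟨x₀, hx₀⟩ := hfx
  have hfixx : ∀ z : Ω, t • z = z ↔ z = x₀ := by
    intro z
    have : z ∈ (Finset.univ.filter (fun z : Ω => t • z = z)) ↔ z ∈ ({x₀} : Finset Ω) := by rw [hx₀]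
    simpa using this
  obtain ⟨a, ha⟩ : ∃ a : Ω, a ≠ x₀ := by
    have : Nontrivial Ω := Fintype.one_lt_card_iff_nontrivial.1 (by omega)
    exact exists_ne x₀
  have h3z : ∀ z : Ω, t • t • t • z = z := by
    intro z
    rw [← mul_smul, ← mul_smul]
    have : t * t * t = 1 := by rw [← ht3, pow_succ, pow_two]
    rw [this, one_smul]
  have hta : t • a ≠ a := fun h => ha ((hfixx a).1 h)
  have htta : t • t • a ≠ t • a := fun h => hta (smul_left_cancel t h)
  have htta' : t • t • a ≠ a := fun h => hta (by have := h3z a; rwa [h] at this)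
  have hx0' : t • x₀ = x₀ := (hfixx x₀).2 rfl
  have hx0a : x₀ ≠ t • a := fun h => ha (by rw [← hx0'] at h; exact (smul_left_cancel t h).symm)
  have hx0b : x₀ ≠ t • t • a := fun h => hx0a (by rw [← hx0'] at h; exact smul_left_cancel t h)
  have hIc : (F3 t a).card = 4 := by
    unfold F3
    rw [hx₀, ← Finset.insert_eq, Finset.card_insert_of_notMem, Finset.card_insert_of_notMem,
      Finset.card_insert_of_notMem, Finset.card_singleton]
    · simpa using htta.symm
    · simp only [Finset.mem_insert, Finset.mem_singleton, not_or]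
      exact ⟨hta.symm, htta'.symm⟩
    · simp only [Finset.mem_insert, Finset.mem_singleton, not_or]
      exact ⟨ha.symm, hx0a, hx0b⟩
  refine ⟨F3 t a, hIc, ?_⟩
  -- the double counting
  let X : Set G := {u : G | u ∈ T ∧ {x : Ω | u • x = x}.ncard = 1}
  obtain ⟨X', hX'⟩ : ∃ X' : Finset G, X' = (Set.toFinite X).toFinset := ⟨_, rfl⟩
  have hX'c : X'.card ≤ Fintype.card Ω * (Fintype.card Ω - 2) := by
    rw [hX', ← Set.ncard_eq_toFinset_card _ (Set.toFinite X)]
    exact card_one_fix hfix (by omega)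
  have hX'm : ∀ u, u ∈ X' ↔ u ∈ X := fun u => by rw [hX']; exact Set.Finite.mem_toFinset _
  obtain ⟨O, hO⟩ : ∃ O : Finset (Finset Ω), O = (Set.toFinite (orbit G (F3 t a))).toFinset := ⟨_, rfl⟩
  have hOc : O.card = (orbit G (F3 t a)).ncard := by
    rw [hO, Set.ncard_eq_toFinset_card _ (Set.toFinite (orbit G (F3 t a)))]
  have hmem : ∀ A, A ∈ O ↔ A ∈ orbit G (F3 t a) := fun A => by rw [hO]; exact Set.Finite.mem_toFinset _
  have hch : ∀ A : Finset Ω, ∃ g : G, A ∈ O → g • F3 t a = A := by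
    intro A
    by_cases hA : A ∈ O
    · obtain ⟨g, hg⟩ := (hmem A).1 hA
      exact ⟨g, fun _ => hg⟩
    · exact ⟨1, fun h => absurd h hA⟩
  choose γ hγ using hch
  let Φ : Finset Ω × (Fin 2 × Fin 3) → (_ : G) × Ω := fun q =>
    ⟨γ q.1 * t ^ (q.2.1.1 + 1) * (γ q.1)⁻¹, γ q.1 • (t ^ q.2.2.1 • a)⟩
  have hpow : ∀ i : Fin 2, F3 (t ^ (i.1 + 1)) a = F3 t a := by
    intro i
    fin_cases i
    · simp
    · simp only [Fin.mk_one, Fin.isValue, Fin.coe_ofNat_eq_mod, Nat.mod_succ]
      rw [show 1 + 1 = 2 from rfl, pow_two, F3_sq ht3]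
  have hpow3 : ∀ i : Fin 2, (t ^ (i.1 + 1)) ^ 3 = 1 := by
    intro i
    rw [← pow_mul, mul_comm, pow_mul, ht3, one_pow]
  have hpow1 : ∀ i : Fin 2, t ^ (i.1 + 1) ≠ 1 := by
    intro i h
    have h5 := orderOf_dvd_of_pow_eq_one h
    rw [ht] at h5
    have := Nat.le_of_dvd (by omega) h5
    have := i.2
    omega
  have hFΦ : ∀ A ∈ O, ∀ i : Fin 2, ∀ j : Fin 3, F3 (Φ (A, i, j)).1 (Φ (A, i, j)).2 = A := by
    intro A hA i j
    change F3 (γ A * t ^ (i.1 + 1) * (γ A)⁻¹) (γ A • (t ^ j.1 • a)) = A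
    rw [F3_conj]
    have h5 : F3 (t ^ (i.1 + 1)) (t ^ j.1 • a) = F3 t a := by
      -- `t` is a power of `t ^ (i + 1)`
      have h6 : ∀ m : ℕ, F3 (t ^ (i.1 + 1)) ((t ^ (i.1 + 1)) ^ m • a) = F3 t a := by
        intro m
        rw [F3_pow_smul (hpow3 i), hpow]
      have h7 : ∃ m : ℕ, (t ^ (i.1 + 1)) ^ m = t ^ j.1 := by
        fin_cases i
        · exact ⟨j.1, by simp⟩
        · refine ⟨2 * j.1, ?_⟩
          simp only [Fin.mk_one, Fin.isValue, Fin.coe_ofNat_eq_mod, Nat.mod_succ]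
          rw [← pow_mul]
          have : (1 + 1) * (2 * j.1) = 3 * j.1 + j.1 := by ring
          rw [this, pow_add, pow_mul, ht3, one_pow, one_mul]
      obtain ⟨m, hm⟩ := h7
      rw [← hm, h6]
    rw [h5, hγ A hA]
  have hmaps : ∀ q ∈ O ×ˢ (Finset.univ : Finset (Fin 2 × Fin 3)),
      Φ q ∈ X'.sigma (fun u => Finset.univ.filter (fun y : Ω => u • y ≠ y)) := by
    rintro ⟨A, i, j⟩ hq
    rw [Finset.mem_product] at hq
    rw [Finset.mem_sigma]
    have hu : γ A * t ^ (i.1 + 1) * (γ A)⁻¹ ∈ X := by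
      have h5 : γ A * t ^ (i.1 + 1) * (γ A)⁻¹ ∈ T := hTn.conj_mem _ (pow_mem htT _) _
      refine ⟨h5, one_fix _ h5 ?_ ?_⟩
      · rw [conj_pow, hpow3, mul_one, mul_inv_cancel]
      · intro h
        apply hpow1 i
        rwa [mul_inv_eq_one, mul_eq_left] at h
    refine ⟨(hX'm _).2 hu, ?_⟩
    rw [Finset.mem_filter]
    refine ⟨Finset.mem_univ _, ?_⟩
    change (γ A * t ^ (i.1 + 1) * (γ A)⁻¹) • (γ A • (t ^ j.1 • a)) ≠ γ A • (t ^ j.1 • a)
    rw [mul_smul, mul_smul, inv_smul_smul]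
    intro h
    have h5 := smul_left_cancel _ h
    rw [← mul_smul, ← pow_add, add_comm, pow_add, mul_smul] at h5
    have h6 : t ^ (i.1 + 1) • a = a := smul_left_cancel _ h5
    fin_cases i
    · simp only [Fin.zero_eta, Fin.isValue, Fin.coe_ofNat_eq_mod, Nat.zero_mod, zero_add, pow_one] at h6
      exact hta h6
    · simp only [Fin.mk_one, Fin.isValue, Fin.coe_ofNat_eq_mod, Nat.mod_succ] at h6
      rw [show 1 + 1 = 2 from rfl, pow_two, mul_smul] at h6
      exact htta' h6
  have hinj : Set.InjOn Φ (O ×ˢ (Finset.univ : Finset (Fin 2 × Fin 3)) : Finset _) := by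
    rintro ⟨A, i, j⟩ hq ⟨A', i', j'⟩ hq' h
    rw [Finset.mem_coe, Finset.mem_product] at hq hq'
    have h5 := hFΦ A hq.1 i j
    have h6 := hFΦ A' hq'.1 i' j'
    rw [h, h6] at h5
    have h7 : A' = A := h5
    subst h7
    have h8 := congrArg Sigma.fst h
    have h9 : γ A' • (t ^ j.1 • a) = γ A' • (t ^ j'.1 • a) := congrArg Sigma.snd h
    have h10 : γ A' * t ^ (i.1 + 1) * (γ A')⁻¹ = γ A' * t ^ (i'.1 + 1) * (γ A')⁻¹ := h8
    have h11 : t ^ (i.1 + 1) = t ^ (i'.1 + 1) := mul_left_cancel (mul_right_cancel h10)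
    have h12 : t ^ j.1 • a = t ^ j'.1 • a := smul_left_cancel _ h9
    have h13 : i = i' := by
      rw [pow_inj_mod, ht] at h11
      have := i.2
      have := i'.2
      apply Fin.ext
      omega
    have h14 : j = j' := by
      clear hq hq' h h5 h6 h8 h9 h10 h11 hmaps hFΦ
      fin_cases j <;> fin_cases j' <;> simp [pow_two, mul_smul] at h12 ⊢
      · exact hta h12.symm
      · exact htta' h12.symm
      · exact hta h12
      · exact hta h12.symm
      · exact htta' h12
      · exact hta h12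
    rw [h13, h14]
  have h5 := Finset.card_le_card_of_injOn Φ hmaps hinj
  rw [Finset.card_product, Finset.card_sigma, Finset.card_univ, Fintype.card_prod, Fintype.card_fin,
    Fintype.card_fin, hOc] at h5
  have h6 : ∑ u ∈ X', (Finset.univ.filter (fun y : Ω => u • y ≠ y)).card = ∑ u ∈ X', (Fintype.card Ω - 1) := by
    refine Finset.sum_congr rfl fun u hu => ?_
    have h7 := ((hX'm u).1 hu).2
    rw [hcount] at h7
    have h8 := Finset.card_filter_add_card_filter_not (s := (Finset.univ : Finset Ω)) (fun y => u • y = y)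
    rw [h7, Finset.card_univ] at h8
    simp only [ne_eq]
    omega
  rw [h6, Finset.sum_const, smul_eq_mul] at h5
  calc 6 * (orbit G (F3 t a)).ncard = (orbit G (F3 t a)).ncard * (2 * 3) := by ring
    _ ≤ X'.card * (Fintype.card Ω - 1) := h5
    _ ≤ _ := Nat.mul_le_mul_right _ hX'c

end Cfsg.Agent.H391.KPslC
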