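import Cfsg.Agent.H391.KPslA

/-!
# Row `PSL_2(q)` of S3564: sharply 3-transitive socle, `k = 5` (helper391)
-/

set_option autoImplicit false
set_option linter.unusedSectionVars false
set_option linter.unusedSimpArgs false

namespace Cfsg.Agent.H391.KPslC

open MulAction Cfsg.Agent.H397.KHom Cfsg.Agent.H384.TwoTrans Cfsg.Agent.H391.KOrb Cfsg.Agent.H391.KPslA
open scoped Pointwise

variable {G Ω : Type*} [Group G] [MulAction G Ω] [DecidableEq Ω] [Fintype Ω] {T : Subgroup G}

theorem sharp3 [Finite G] (hfix : ∀ t ∈ T, t ≠ 1 → {x : Ω | t • x = x}.ncard ≤ 2)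
    (hT : Nat.card ↥T = Fintype.card Ω * (Fintype.card Ω - 1) * (Fintype.card Ω - 2))
    {a b c a' b' c' : Ω} (hab : a ≠ b) (hac : a ≠ c) (hbc : b ≠ c) (hab' : a' ≠ b') (hac' : a' ≠ c')
    (hbc' : b' ≠ c') : ∃ t ∈ T, t • a = a' ∧ t • b = b' ∧ t • c = c' := by
  classical
  have hinj0 : ∀ {x y z : Ω}, x ≠ y → x ≠ z → y ≠ z → Function.Injective (![x, y, z] : Fin 3 → Ω) := by
    intro x y z h1 h2 h3 i j hij
    fin_cases i <;> fin_cases j <;> simp_all
  let e₀ : Fin 3 ↪ Ω := ⟨![a, b, c], hinj0 hab hac hbc⟩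
  let e₁ : Fin 3 ↪ Ω := ⟨![a', b', c'], hinj0 hab' hac' hbc'⟩
  let ψ : ↥T → (Fin 3 ↪ Ω) := fun t => e₀.trans (MulAction.toPerm (t : G)).toEmbedding
  have hψ : ∀ (t : ↥T) (i : Fin 3), ψ t i = (t : G) • e₀ i := fun t i => rfl
  have hinj : Function.Injective ψ := by
    intro s t hst
    by_contra hne
    have h1 : (t : G)⁻¹ * s ≠ 1 := by
      intro h
      apply hne
      apply Subtype.ext
      have := eq_inv_of_mul_eq_one_right h
      rw [this, inv_inv]
    have h2 := hfix _ (mul_mem (inv_mem t.2) s.2) h1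
    have h3 : ∀ i, e₀ i ∈ {x : Ω | ((t : G)⁻¹ * s) • x = x} := by
      intro i
      rw [Set.mem_ofPred_eq, mul_smul, inv_smul_eq_iff, ← hψ, ← hψ, hst]
    have h4 : Set.range e₀ ⊆ {x : Ω | ((t : G)⁻¹ * s) • x = x} := by
      rintro _ ⟨i, rfl⟩
      exact h3 i
    have h5 := Set.ncard_le_ncard h4 (Set.toFinite _)
    have h6 : (Set.range e₀).ncard = 3 := by
      rw [← Set.image_univ, Set.ncard_image_of_injective _ e₀.injective, Set.ncard_univ, Nat.card_eq_fintype_card,
        Fintype.card_fin]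
    omega
  have hcard : Nat.card (Fin 3 ↪ Ω) = Nat.card ↥T := by
    rw [Nat.card_eq_fintype_card, Fintype.card_embedding_eq, Fintype.card_fin, hT]
    simp only [Nat.descFactorial, Nat.sub_zero]
    ring
  have hbij := (Nat.bijective_iff_injective_and_card ψ).2 ⟨hinj, hcard.symm⟩
  obtain ⟨t, ht⟩ := hbij.2 e₁
  refine ⟨t, t.2, ?_, ?_, ?_⟩
  · exact congrArg (fun e : Fin 3 ↪ Ω => e 0) ht
  · exact congrArg (fun e : Fin 3 ↪ Ω => e 1) ht
  · exact congrArg (fun e : Fin 3 ↪ Ω => e 2) ht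

theorem four_le_stab [Finite G] (hfix : ∀ t ∈ T, t ≠ 1 → {x : Ω | t • x = x}.ncard ≤ 2)
    (hT : Nat.card ↥T = Fintype.card Ω * (Fintype.card Ω - 1) * (Fintype.card Ω - 2))
    (hsw : ∀ t ∈ T, ∀ x y : Ω, x ≠ y → t • x = y → t • y = x → ∀ z : Ω, t • t • z = z)
    {I : Finset Ω} (hI : I.card = 4) : 4 ≤ Nat.card (stabilizer G I) := by
  classical
  obtain ⟨x, hx⟩ : ∃ x, x ∈ I := Finset.card_pos.1 (by omega)
  have htr : ∀ y ∈ I, y ∈ orbit (stabilizer G I) x := by
    intro y hy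
    by_cases hxy : y = x
    · rw [hxy]
      exact mem_orbit_self x
    have h1 : ((I.erase x).erase y).card = 2 := by
      rw [Finset.card_erase_of_mem (Finset.mem_erase.2 ⟨hxy, hy⟩), Finset.card_erase_of_mem hx, hI]
    obtain ⟨z, w, hzw, h2⟩ := Finset.card_eq_two.1 h1
    have hz : z ∈ (I.erase x).erase y := by rw [h2]; simp
    have hw : w ∈ (I.erase x).erase y := by rw [h2]; simp
    rw [Finset.mem_erase, Finset.mem_erase] at hz hw
    have hI' : ∀ u ∈ I, u = x ∨ u = y ∨ u = z ∨ u = w := by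
      intro u hu
      by_cases h3 : u = x
      · exact Or.inl h3
      by_cases h4 : u = y
      · exact Or.inr (Or.inl h4)
      have h5 : u ∈ (I.erase x).erase y := Finset.mem_erase.2 ⟨h4, Finset.mem_erase.2 ⟨h3, hu⟩⟩
      rw [h2] at h5
      simpa [h3, h4] using h5
    obtain ⟨g, hgT, hgx, hgy, hgz⟩ := sharp3 hfix hT (a := x) (b := y) (c := z) (a' := y) (b' := x) (c' := w)
      (Ne.symm hxy) (Ne.symm hz.2.1) (Ne.symm hz.1) hxy (Ne.symm hw.1) (Ne.symm hw.2.1)
    have hgw : g • w = z := by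
      have := hsw g hgT x y (Ne.symm hxy) hgx hgy z
      rwa [hgz] at this
    refine ⟨⟨g, ?_⟩, hgx⟩
    rw [mem_stabilizer_iff]
    refine Finset.eq_of_subset_of_card_le (smul_subset_iff.2 fun u hu => ?_) (by rw [Finset.card_smul_finset])
    rcases hI' u hu with rfl | rfl | rfl | rfl
    · rw [hgx]; exact hy
    · rw [hgy]; exact hx
    · rw [hgz]; exact hw.2.2
    · rw [hgw]; exact hz.2.2
  have h1 : (I : Set Ω) ⊆ orbit (stabilizer G I) x := fun y hy => htr y hy
  have h2 := Set.ncard_le_ncard h1 (Set.toFinite _)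
  rw [Set.ncard_coe_finset, hI] at h2
  have h3 := ncard_orbit_mul (stabilizer G I) x
  have h4 : 0 < Nat.card ↥(stabilizer G I ⊓ stabilizer G x) := Nat.card_pos
  nlinarith

theorem choose_mul_le_numOrb_mul [Finite G] {j m : ℕ}
    (h : ∀ I : Finset Ω, I.card = j → m ≤ Nat.card (stabilizer G I)) :
    (Fintype.card Ω).choose j * m ≤ numOrb G Ω j * Nat.card G := by
  classical
  have := finite_orb (G := G) (Ω := Ω) j
  have i1 : Fintype (Quotient (orbitRel G (Set.powersetCard Ω j))) := Fintype.ofFinite _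
  have h1 : Nat.card (Set.powersetCard Ω j) = (Fintype.card Ω).choose j := by
    rw [Set.powersetCard.card, Nat.card_eq_fintype_card]
  rw [← h1, Nat.card_congr (selfEquivSigmaOrbits G (Set.powersetCard Ω j)), Nat.card_sigma, Finset.sum_mul]
  have h2 : ∑ ω : Quotient (orbitRel G (Set.powersetCard Ω j)), Nat.card (orbit G ω.out) * m ≤
      ∑ ω : Quotient (orbitRel G (Set.powersetCard Ω j)), Nat.card G := by
    refine Finset.sum_le_sum fun ω _ => ?_
    have h3 := (stabilizer G ω.out).card_mul_index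
    rw [index_stabilizer] at h3
    rw [Nat.card_coe_set_eq, ← h3, mul_comm]
    apply Nat.mul_le_mul_right
    refine (h ω.out.1 ω.out.2).trans ?_
    have h4 : stabilizer G ω.out.1 ≤ stabilizer G ω.out := by
      intro g hg
      rw [mem_stabilizer_iff] at hg ⊢
      exact Subtype.ext hg
    exact Nat.card_le_card_of_injective _ (Subgroup.inclusion_injective h4)
  refine h2.trans ?_
  rw [Finset.sum_const, smul_eq_mul, Finset.card_univ, numOrb,
    ← Nat.card_eq_fintype_card (α := Quotient (orbitRel G (Set.powersetCard Ω j)))]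

theorem numOrb_le_two [Finite G] (hfix : ∀ t ∈ T, t ≠ 1 → {x : Ω | t • x = x}.ncard ≤ 2) (h : Hom G Ω 5)
    (hodd : ¬ 2 ∣ Fintype.card Ω) (hn : 7 ≤ Fintype.card Ω) (h4 : 4 ∣ Nat.card ↥T) : numOrb G Ω 4 ≤ 2 := by
  classical
  obtain ⟨V, hVT, hV⟩ := exists_pow_subgroup (a := 2) Nat.prime_two (by simpa using h4)
  have hVp : IsPGroup 2 V := IsPGroup.of_card hV
  have hf2 : Fact (Nat.Prime 2) := ⟨Nat.prime_two⟩
  obtain ⟨x, hx⟩ := hVp.nonempty_fixed_point_of_prime_not_dvd_card Ω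
    (by rwa [Nat.card_eq_fintype_card])
  obtain ⟨a, ha⟩ := exists_regular hfix hVT (by rw [hV, Nat.card_eq_fintype_card]; omega)
  rw [hV] at ha
  norm_num at ha
  obtain ⟨O, hO⟩ : ∃ O : Finset Ω, O = (Set.toFinite (orbit V a)).toFinset := ⟨_, rfl⟩
  have hOc : O.card = 4 := by rw [hO, ← Set.ncard_eq_toFinset_card _ (Set.toFinite (orbit V a)), ha]
  have hmem : ∀ y, y ∈ O ↔ y ∈ orbit V a := fun y => by rw [hO]; exact Set.Finite.mem_toFinset _
  have hxf : ∀ v : V, v • x = x := fun v => hx v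
  have hxO : x ∉ O := by
    rw [hmem]
    intro hcon
    have h5 : orbit V a = {x} := by
      rw [← orbit_eq_iff.2 hcon]
      ext z
      constructor
      · rintro ⟨v, rfl⟩
        exact hxf v
      · intro hz
        rw [Set.mem_singleton_iff.1 hz]
        exact mem_orbit_self x
    rw [h5, Set.ncard_singleton] at ha
    omega
  have hstab : ∀ v : V, (v : G) • insert x O = insert x O := by
    intro v
    refine Finset.eq_of_subset_of_card_le (smul_subset_iff.2 fun u hu => ?_) (by rw [Finset.card_smul_finset])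
    rw [Finset.mem_insert] at hu ⊢
    rcases hu with rfl | hu
    · exact Or.inl (hxf v)
    · right
      rw [hmem] at hu ⊢
      obtain ⟨w, rfl⟩ := hu
      exact ⟨v * w, mul_smul v w a⟩
  have h5 := h.numOrb_le_of_cover (by omega) (J := insert x O) (by rw [Finset.card_insert_of_notMem hxO, hOc])
    {x, a} (by
      intro y hy
      rw [Finset.mem_insert] at hy
      rcases hy with rfl | hy
      · exact ⟨y, by simp, 1, one_smul _ _, one_smul _ _⟩
      · rw [hmem] at hy
        obtain ⟨v, rfl⟩ := hy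
        exact ⟨a, by simp, v, hstab v, rfl⟩)
  exact h5.trans Finset.card_le_two

/-- **`k = 5`, sharply 3-transitive socle** -/
theorem sharp_five [Finite G] (hfix : ∀ t ∈ T, t ≠ 1 → {x : Ω | t • x = x}.ncard ≤ 2)
    (hT : Nat.card ↥T = Fintype.card Ω * (Fintype.card Ω - 1) * (Fintype.card Ω - 2))
    (hsw : ∀ t ∈ T, ∀ x y : Ω, x ≠ y → t • x = y → t • y = x → ∀ z : Ω, t • t • z = z)
    (h : Hom G Ω 5) (hodd : ¬ 2 ∣ Fintype.card Ω) (hn : 7 ≤ Fintype.card Ω) (h4 : 4 ∣ Nat.card ↥T) :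
    (Fintype.card Ω).choose 4 * 4 ≤ 2 * Nat.card G :=
  (choose_mul_le_numOrb_mul (fun _ hI => four_le_stab hfix hT hsw hI)).trans
    (Nat.mul_le_mul_right _ (numOrb_le_two hfix h hodd hn h4))

end Cfsg.Agent.H391.KPslC
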