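import Cfsg.Agent.H391.KPslB
import Cfsg.Agent.H391.KPslC

/-!
# Row `PSL_2(q)` of S3564: explicit elements (helper391)
-/

set_option autoImplicit false
set_option linter.unusedSectionVars false
set_option linter.unusedSimpArgs false

namespace Cfsg.Agent.H391.KPslD

open Matrix MulAction Cfsg.Agent.H384.TwoTrans Cfsg.Agent.H391.KPslB Cfsg.Agent.H397.KHom Cfsg.Agent.H391.KOrb
open scoped LinearAlgebra.Projectivization Pointwise

universe u v

variable {G : Type u} {Ω : Type v} [Group G] [MulAction G Ω] {T : Subgroup G}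
variable {F : Type*} [Field F]

/-- a projective point -/
def pt (x y : F) (h : x ≠ 0 ∨ y ≠ 0) : ℙ F (Fin 2 → F) :=
  Projectivization.mk F ![x, y] (by
    intro h0
    have h1 := congrFun h0 0
    have h2 := congrFun h0 1
    simp at h1 h2
    rcases h with h | h
    · exact h h1
    · exact h h2)

theorem pt_eq_iff {x y x' y' : F} (h : x ≠ 0 ∨ y ≠ 0) (h' : x' ≠ 0 ∨ y' ≠ 0) :
    pt x y h = pt x' y' h' ↔ x * y' = y * x' := by
  unfold pt
  rw [eq_iff]
  simp

theorem smul_pt_iff (s : SpecialLinearGroup (Fin 2) F) {x y x' y' : F} (h : x ≠ 0 ∨ y ≠ 0) (h' : x' ≠ 0 ∨ y' ≠ 0) :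
    s • pt x y h = pt x' y' h' ↔
      (s.1 0 0 * x + s.1 0 1 * y) * y' = (s.1 1 0 * x + s.1 1 1 * y) * x' := by
  unfold pt
  rw [smul_eq_iff]
  simp

/-- the element with given entries -/
def sl (a b c d : F) (h : a * d - b * c = 1) : SpecialLinearGroup (Fin 2) F :=
  ⟨!![a, b; c, d], by rw [det_fin_two_of, h]⟩

theorem sl_smul_pt_iff {a b c d : F} (hd : a * d - b * c = 1) {x y x' y' : F} (h : x ≠ 0 ∨ y ≠ 0)
    (h' : x' ≠ 0 ∨ y' ≠ 0) :
    sl a b c d hd • pt x y h = pt x' y' h' ↔ (a * x + b * y) * y' = (c * x + d * y) * x' := by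
  rw [smul_pt_iff]
  simp [sl]

variable {φ : SpecialLinearGroup (Fin 2) F →* ↥T} {f : Ω ≃ ℙ F (Fin 2 → F)}

theorem smul_symm (hf : ∀ (s : SpecialLinearGroup (Fin 2) F) (x : Ω), f (φ s • x) = s • f x)
    (s : SpecialLinearGroup (Fin 2) F) (p : ℙ F (Fin 2 → F)) : (φ s : G) • f.symm p = f.symm (s • p) := by
  rw [Equiv.eq_symm_apply]
  have := hf s (f.symm p)
  rw [f.apply_symm_apply] at this
  exact this

theorem eq_one_of_trivial [FaithfulSMul G Ω]
    (hf : ∀ (s : SpecialLinearGroup (Fin 2) F) (x : Ω), f (φ s • x) = s • f x)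
    {s : SpecialLinearGroup (Fin 2) F} (h : ∀ p : ℙ F (Fin 2 → F), s • p = p) : (φ s : G) = 1 := by
  apply eq_of_smul_eq_smul (α := Ω)
  intro x
  obtain ⟨p, rfl⟩ := f.symm.surjective x
  rw [smul_symm hf, h, one_smul]

theorem ne_one_of_moves (hf : ∀ (s : SpecialLinearGroup (Fin 2) F) (x : Ω), f (φ s • x) = s • f x)
    {s : SpecialLinearGroup (Fin 2) F} {p : ℙ F (Fin 2 → F)} (h : s • p ≠ p) : (φ s : G) ≠ 1 := by
  intro h1
  have := smul_symm hf s p
  rw [h1, one_smul] at this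
  exact h (f.symm.injective this).symm

theorem mul_val (s t : SpecialLinearGroup (Fin 2) F) (i j : Fin 2) :
    (s * t).1 i j = s.1 i 0 * t.1 0 j + s.1 i 1 * t.1 1 j := by
  change (s.1 * t.1) i j = _
  rw [mul_apply, Fin.sum_univ_two]

/-- an element swapping two points is an involution -/
theorem swap (A : AS G Ω T) [Fintype F]
    (e : Nonempty (↥T ≃* ProjectiveSpecialLinearGroup (Fin 2) F)) (hn : Nat.card Ω = Fintype.card F + 1) :
    ∀ t ∈ T, ∀ x y : Ω, x ≠ y → t • x = y → t • y = x → ∀ z : Ω, t • t • z = z := by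
  obtain ⟨φ, f, hφ, hf⟩ := ident₂ A e hn
  intro t ht x y hxy hx hy z
  obtain ⟨s, hs⟩ := hφ ⟨t, ht⟩
  have hst : ∀ w : Ω, f (t • w) = s • f w := by
    intro w
    rw [← hf, hs]
    rfl
  have hx' : s • f x = f y := by rw [← hst, hx]
  have hy' : s • f y = f x := by rw [← hst, hy]
  have hne : f x ≠ f y := fun h => hxy (f.injective h)
  apply f.injective
  rw [hst, hst]
  generalize f x = X at hx' hy' hne
  generalize f y = Y at hx' hy' hne
  generalize f z = Z
  induction X using Projectivization.ind with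
  | h u hu =>
  induction Y using Projectivization.ind with
  | h v hv =>
  induction Z using Projectivization.ind with
  | h w hw =>
    rw [smul_eq_iff] at hx' hy'
    rw [Ne, eq_iff] at hne
    have htr : s.1 0 0 + s.1 1 1 = 0 := by
      apply (mul_eq_zero.1 (?_ : (s.1 0 0 + s.1 1 1) * (u 0 * v 1 - u 1 * v 0) = 0)).resolve_right
        (sub_ne_zero.2 hne)
      linear_combination hx' - hy'
    rw [← mul_smul, smul_eq_iff]
    rw [mul_val, mul_val, mul_val, mul_val]
    linear_combination (s.1 0 1 * w 1 * w 1 + s.1 0 0 * w 0 * w 1 - s.1 1 0 * w 0 * w 0 - s.1 1 1 * w 0 * w 1) * htr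

end Cfsg.Agent.H391.KPslD
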