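import Cfsg.Agent.H391.KPslD

/-!
# Row `PSL_2(q)` of S3564: `q = 11`, `13`, `16` (helper391)
-/

set_option autoImplicit false
set_option linter.unusedSectionVars false
set_option linter.unusedSimpArgs false

namespace Cfsg.Agent.H391.KPslD

open Matrix MulAction Cfsg.Agent.H384.TwoTrans Cfsg.Agent.H391.KPslB Cfsg.Agent.H397.KHom Cfsg.Agent.H391.KOrb
open scoped LinearAlgebra.Projectivization Pointwise

universe u v

variable {G : Type u} {Ω : Type v} [Group G] [MulAction G Ω] {T : Subgroup G}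
variable {F : Type*} [Field F] [Fintype F]

theorem cast_zero {m : ℕ} (hF : Fintype.card F = m) : ((m : ℕ) : F) = 0 := by
  rw [← hF]
  exact Nat.cast_card_eq_zero F

theorem coe_pow_map {φ : SpecialLinearGroup (Fin 2) F →* ↥T} (s : SpecialLinearGroup (Fin 2) F) (m : ℕ) :
    (φ s : G) ^ m = (φ (s ^ m) : G) := by
  rw [map_pow, Subgroup.coe_pow]

theorem coe_mul_map {φ : SpecialLinearGroup (Fin 2) F →* ↥T} (s t : SpecialLinearGroup (Fin 2) F) :
    (φ s : G) * (φ t : G) = (φ (s * t) : G) := by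
  rw [map_mul, Subgroup.coe_mul]

/-- `q = 11`, `k = 6` -/
theorem case_11 (A : AS G Ω T) [DecidableEq Ω] (hF : Fintype.card F = 11)
    (e : Nonempty (↥T ≃* ProjectiveSpecialLinearGroup (Fin 2) F)) (hn : Nat.card Ω = Fintype.card F + 1)
    (h : Hom G Ω 6) : Homog G Ω 5 := by
  obtain ⟨φ, f, hφ, hf⟩ := ident₂ A e hn
  have := A.finG
  have := A.finΩ
  have := A.faithful
  have h11 : (11 : F) = 0 := by exact_mod_cast cast_zero hF
  let s : SpecialLinearGroup (Fin 2) F := sl 0 1 (-1) 5 (by ring)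
  have s00 : s.1 0 0 = 0 := rfl
  have s01 : s.1 0 1 = 1 := rfl
  have s10 : s.1 1 0 = -1 := rfl
  have s11 : s.1 1 1 = 5 := rfl
  have hs6 : s ^ 6 = (s * s * s) * (s * s * s) := by
    simp only [pow_succ, pow_zero, one_mul, mul_assoc]
  have g6 : (φ s : G) ^ 6 = 1 := by
    rw [coe_pow_map, hs6]
    refine eq_one_of_trivial hf fun p => scalar_smul ?_ ?_ ?_ p
    · simp only [mul_val, s00, s01, s10, s11]
      linear_combination (240 : F) * h11
    · simp only [mul_val, s00, s01, s10, s11]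
      linear_combination (-240 : F) * h11
    · simp only [mul_val, s00, s01, s10, s11]
      linear_combination (-1200 : F) * h11
  have g2 : (φ s : G) ^ 2 ≠ 1 := by
    rw [coe_pow_map, pow_two]
    refine ne_one_of_moves hf (p := pt 1 0 (Or.inl one_ne_zero)) ?_
    rw [Ne, smul_pt_iff]
    simp only [mul_val, s00, s01, s10, s11]
    intro h0
    have : (1 : F) = 0 := by linear_combination (-2 : F) * h0 + h11
    exact one_ne_zero this
  have g3 : (φ s : G) ^ 3 ≠ 1 := by
    rw [coe_pow_map, pow_succ, pow_two]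
    refine ne_one_of_moves hf (p := pt 1 0 (Or.inl one_ne_zero)) ?_
    rw [Ne, smul_pt_iff]
    simp only [mul_val, s00, s01, s10, s11]
    intro h0
    have : (1 : F) = 0 := by linear_combination (-5 : F) * h0 + 11 * h11
    exact one_ne_zero this
  have hfix := fix_le_two A e hn
  have h2 := hfix _ (pow_mem (φ s).2 2) g2
  have h3 := hfix _ (pow_mem (φ s).2 3) g3
  obtain ⟨x, hx⟩ := exists_orbit_six g6 (Ω := Ω) (by rw [hn, hF]; omega)
  exact h.homog_of_orbit (by omega) _ x hx

variable {φ : SpecialLinearGroup (Fin 2) F →* ↥T} {f : Ω ≃ ℙ F (Fin 2 → F)}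

theorem stab_of [DecidableEq Ω] (hf : ∀ (s : SpecialLinearGroup (Fin 2) F) (x : Ω), f (φ s • x) = s • f x)
    {s : SpecialLinearGroup (Fin 2) F} {I : Finset (ℙ F (Fin 2 → F))} (h : ∀ p ∈ I, s • p ∈ I) :
    (φ s : G) ∈ stabilizer G (I.map f.symm.toEmbedding) := by
  rw [mem_stabilizer_iff]
  refine Finset.eq_of_subset_of_card_le (smul_subset_iff.2 fun x hx => ?_) (by rw [Finset.card_smul_finset])
  rw [Finset.mem_map] at hx
  obtain ⟨p, hp, rfl⟩ := hx
  rw [Finset.mem_map]
  exact ⟨s • p, h p hp, (smul_symm hf s p).symm⟩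

/-- `q = 13`, `k = 5` -/
theorem case_13 (A : AS G Ω T) [DecidableEq Ω] [Fintype Ω] (hF : Fintype.card F = 13)
    (e : Nonempty (↥T ≃* ProjectiveSpecialLinearGroup (Fin 2) F)) (hn : Nat.card Ω = Fintype.card F + 1)
    (h : Hom G Ω 5) : (Fintype.card Ω).choose 4 * 12 ≤ 5 * Nat.card G := by
  classical
  obtain ⟨φ, f, hφ, hf⟩ := ident₂ A e hn
  have := A.finG
  have := A.faithful
  have h13 : (13 : F) = 0 := by exact_mod_cast cast_zero hF
  have h4 : (4 : F) ≠ 0 := by
    intro h0
    have : (1 : F) = 0 := by linear_combination h13 - 3 * h0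
    exact one_ne_zero this
  let P0 : ℙ F (Fin 2 → F) := pt 0 1 (Or.inr one_ne_zero)
  let P1 : ℙ F (Fin 2 → F) := pt 1 1 (Or.inr one_ne_zero)
  let P4 : ℙ F (Fin 2 → F) := pt 4 1 (Or.inr one_ne_zero)
  let Pi : ℙ F (Fin 2 → F) := pt 1 0 (Or.inl one_ne_zero)
  have hi0 : Pi ≠ P0 := by rw [Ne, pt_eq_iff]; simp
  have hi1 : Pi ≠ P1 := by rw [Ne, pt_eq_iff]; simp
  have hi4 : Pi ≠ P4 := by rw [Ne, pt_eq_iff]; simp
  have h01 : P0 ≠ P1 := by rw [Ne, pt_eq_iff]; simp
  have h04 : P0 ≠ P4 := by rw [Ne, pt_eq_iff]; simpa using h4.symm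
  have h14 : P1 ≠ P4 := by
    rw [Ne, pt_eq_iff]
    intro h0
    have : (1 : F) = 0 := by linear_combination h13 + (4 : F) * h0
    exact one_ne_zero this
  let I : Finset (ℙ F (Fin 2 → F)) := {Pi, P0, P1, P4}
  have hIc : I.card = 4 := by
    rw [Finset.card_insert_of_notMem, Finset.card_insert_of_notMem, Finset.card_insert_of_notMem,
      Finset.card_singleton]
    · simpa using h14
    · simpa using ⟨h01, h04⟩
    · simpa using ⟨hi0, hi1, hi4⟩
  let z : SpecialLinearGroup (Fin 2) F := sl 0 1 (-1) 1 (by ring)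
  let v : SpecialLinearGroup (Fin 2) F := sl 0 10 9 0 (by linear_combination (-7 : F) * h13)
  have z1 : z • Pi = P0 := by rw [sl_smul_pt_iff]; ring
  have z2 : z • P0 = P1 := by rw [sl_smul_pt_iff]; ring
  have z3 : z • P1 = Pi := by rw [sl_smul_pt_iff]; ring
  have z4 : z • P4 = P4 := by rw [sl_smul_pt_iff]; linear_combination h13
  have v1 : v • Pi = P0 := by rw [sl_smul_pt_iff]; ring
  have v2 : v • P0 = Pi := by rw [sl_smul_pt_iff]; ring
  have v3 : v • P1 = P4 := by rw [sl_smul_pt_iff]; linear_combination (-2 : F) * h13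
  have v4 : v • P4 = P1 := by rw [sl_smul_pt_iff]; linear_combination (-2 : F) * h13
  have hz : ∀ p ∈ I, z • p ∈ I := by
    intro p hp
    simp only [I, Finset.mem_insert, Finset.mem_singleton] at hp
    rcases hp with rfl | rfl | rfl | rfl
    · rw [z1]; simp [I]
    · rw [z2]; simp [I]
    · rw [z3]; simp [I]
    · rw [z4]; simp [I]
  have hv : ∀ p ∈ I, v • p ∈ I := by
    intro p hp
    simp only [I, Finset.mem_insert, Finset.mem_singleton] at hp
    rcases hp with rfl | rfl | rfl | rfl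
    · rw [v1]; simp [I]
    · rw [v2]; simp [I]
    · rw [v3]; simp [I]
    · rw [v4]; simp [I]
  have hzs := stab_of (G := G) hf hz
  have hvs := stab_of (G := G) hf hv
  obtain ⟨H, hH⟩ : ∃ H : Subgroup G, H = stabilizer G (I.map f.symm.toEmbedding) := ⟨_, rfl⟩
  rw [← hH] at hzs hvs
  -- order 3
  have h3 : 3 ∣ Nat.card H := by
    have h5 : orderOf (φ z : G) = 3 := by
      apply orderOf_eq_prime (p := 3) (hp := ⟨Nat.prime_three⟩)
      · rw [coe_pow_map, pow_succ, pow_two]
        have z00 : z.1 0 0 = 0 := rfl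
        have z01 : z.1 0 1 = 1 := rfl
        have z10 : z.1 1 0 = -1 := rfl
        have z11 : z.1 1 1 = 1 := rfl
        refine eq_one_of_trivial hf fun p => scalar_smul ?_ ?_ ?_ p
        · simp only [mul_val, z00, z01, z10, z11]
          ring
        · simp only [mul_val, z00, z01, z10, z11]
          ring
        · simp only [mul_val, z00, z01, z10, z11]
          ring
      · refine ne_one_of_moves hf (p := Pi) ?_
        rw [z1]
        exact hi0.symm
    rw [← h5]
    exact Subgroup.orderOf_dvd_natCard H hzs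
  have horb : orbit H (f.symm Pi) = ((I.map f.symm.toEmbedding : Finset Ω) : Set Ω) := by
    apply Set.Subset.antisymm
    · rintro _ ⟨⟨g, hg⟩, rfl⟩
      rw [hH, mem_stabilizer_iff] at hg
      change g • f.symm Pi ∈ _
      rw [Finset.mem_coe, ← hg]
      exact Finset.smul_mem_smul_finset (Finset.mem_map_of_mem f.symm.toEmbedding (by simp [I]))
    · intro x hx
      rw [Finset.mem_coe, Finset.mem_map] at hx
      obtain ⟨p, hp, rfl⟩ := hx
      simp only [I, Finset.mem_insert, Finset.mem_singleton] at hp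
      rcases hp with rfl | rfl | rfl | rfl
      · exact mem_orbit_self _
      · refine ⟨⟨φ z, hzs⟩, ?_⟩
        change (φ z : G) • f.symm Pi = f.symm P0
        rw [smul_symm hf, z1]
      · refine ⟨⟨φ z * φ z, mul_mem hzs hzs⟩, ?_⟩
        change ((φ z : G) * φ z) • f.symm Pi = f.symm P1
        rw [mul_smul, smul_symm hf, smul_symm hf, z1, z2]
      · refine ⟨⟨φ v * (φ z * φ z), mul_mem hvs (mul_mem hzs hzs)⟩, ?_⟩
        change ((φ v : G) * (φ z * φ z)) • f.symm Pi = f.symm P4
        rw [mul_smul, mul_smul, smul_symm hf, smul_symm hf, smul_symm hf, z1, z2, v3]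
  have h4' := ncard_orbit_mul H (f.symm Pi)
  rw [horb, Set.ncard_coe_finset, Finset.card_map, hIc] at h4'
  have h12 : 12 ≤ Nat.card H := by
    have h5 : 4 ∣ Nat.card H := Dvd.intro _ h4'
    have h6 : 12 ∣ Nat.card H := by omega
    exact Nat.le_of_dvd Nat.card_pos h6
  refine (Nat.mul_le_mul_left _ h12).trans ?_
  refine h.choose_mul_card_le (by omega) ?_ H (I := I.map f.symm.toEmbedding) (by rw [Finset.card_map, hIc]) ?_
  · rw [← Nat.card_eq_fintype_card, hn, hF]
    omega
  · intro g hg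
    rw [hH] at hg
    exact hg

end Cfsg.Agent.H391.KPslD
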