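import Cfsg.Agent.H391.KPslE

/-!
# Row `PSL_2(q)` of S3564: `q = 16`, `k = 7` (helper391)
-/

set_option autoImplicit false
set_option linter.unusedSectionVars false
set_option linter.unusedSimpArgs false

namespace Cfsg.Agent.H391.KPslD

open Matrix MulAction Cfsg.Agent.H384.TwoTrans Cfsg.Agent.H391.KPslB Cfsg.Agent.H397.KHom Cfsg.Agent.H391.KOrb
open scoped LinearAlgebra.Projectivization Pointwise

universe u v

variable {G : Type u} {Ω : Type v} [Group G] [MulAction G Ω] {T : Subgroup G}
variable {F : Type*} [Field F] [Fintype F]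

/-- `q = 16`, `k = 7` -/
theorem case_16 (A : AS G Ω T) [DecidableEq Ω] [Fintype Ω] (hF : Fintype.card F = 16)
    (e : Nonempty (↥T ≃* ProjectiveSpecialLinearGroup (Fin 2) F)) (hn : Nat.card Ω = Fintype.card F + 1)
    (h : Hom G Ω 7) : (Fintype.card Ω).choose 6 * 10 ≤ 7 * Nat.card G := by
  classical
  obtain ⟨φ, f, hφ, hf⟩ := ident₂ A e hn
  have := A.finG
  have := A.faithful
  have h16 : (16 : F) = 0 := by exact_mod_cast cast_zero hF
  have h2 : (2 : F) = 0 := by
    have : (2 : F) ^ 4 = 0 := by linear_combination h16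
    exact pow_eq_zero_iff (by norm_num) |>.1 this
  -- a fifth root of unity
  obtain ⟨ζ, hζ⟩ : ∃ ζ : Fˣ, orderOf ζ = 5 := by
    have : Fact (Nat.Prime 5) := ⟨Nat.prime_five⟩
    apply exists_prime_orderOf_dvd_card 5
    rw [Fintype.card_units, hF]
    norm_num
  have hζ5 : (ζ : F) ^ 5 = 1 := by
    have := pow_orderOf_eq_one ζ
    rw [hζ] at this
    rw [← Units.val_pow_eq_pow_val, this, Units.val_one]
  have hζ0 : (ζ : F) ≠ 0 := ζ.ne_zero
  let S : Finset F := (Finset.range 5).image (fun i => (ζ : F) ^ i)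
  have hSc : S.card = 5 := by
    rw [Finset.card_image_of_injOn, Finset.card_range]
    intro i hi j hj hij
    rw [Finset.coe_range, Set.mem_Iio] at hi hj
    have h5 : ζ ^ i = ζ ^ j := by
      apply Units.ext
      rw [Units.val_pow_eq_pow_val, Units.val_pow_eq_pow_val]
      exact hij
    rw [pow_inj_mod, hζ] at h5
    omega
  have hSm : ∀ x, x ∈ S ↔ ∃ i : ℕ, x = (ζ : F) ^ i := by
    intro x
    rw [Finset.mem_image]
    constructor
    · rintro ⟨i, -, rfl⟩
      exact ⟨i, rfl⟩
    · rintro ⟨i, rfl⟩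
      refine ⟨i % 5, Finset.mem_range.2 (Nat.mod_lt _ (by norm_num)), ?_⟩
      conv_rhs => rw [← Nat.div_add_mod i 5, pow_add, pow_mul, hζ5, one_pow, one_mul]
  let pa : F → ℙ F (Fin 2 → F) := fun x => pt x 1 (Or.inr one_ne_zero)
  have hpa : Function.Injective pa := by
    intro x y hxy
    have := (pt_eq_iff _ _).1 hxy
    simpa using this
  let Pi : ℙ F (Fin 2 → F) := pt 1 0 (Or.inl one_ne_zero)
  have hPia : ∀ x, Pi ≠ pa x := by
    intro x
    rw [Ne, pt_eq_iff]
    simp
  have hS0 : (0 : F) ∉ S := by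
    rw [hSm]
    rintro ⟨i, hi⟩
    exact pow_ne_zero i hζ0 hi.symm
  let I : Finset (ℙ F (Fin 2 → F)) := insert Pi (insert (pa 0) (S.image pa))
  have hIc : I.card = 7 := by
    rw [Finset.card_insert_of_notMem, Finset.card_insert_of_notMem, Finset.card_image_of_injective _ hpa, hSc]
    · intro h0
      rw [Finset.mem_image] at h0
      obtain ⟨x, hx, hx0⟩ := h0
      exact hS0 (hpa hx0 ▸ hx)
    · intro h0
      rw [Finset.mem_insert, Finset.mem_image] at h0
      rcases h0 with h0 | ⟨x, -, hx0⟩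
      · exact hPia _ h0
      · exact hPia _ hx0.symm
  let s : SpecialLinearGroup (Fin 2) F := sl ((ζ : F) ^ 3) 0 0 ((ζ : F) ^ 2) (by linear_combination hζ5)
  let t : SpecialLinearGroup (Fin 2) F := sl 0 1 (-1) 0 (by ring)
  have s1 : s • Pi = Pi := by rw [sl_smul_pt_iff]; ring
  have s2 : ∀ x, s • pa x = pa (ζ * x) := by
    intro x
    rw [sl_smul_pt_iff]
    ring
  have t1 : t • Pi = pa 0 := by rw [sl_smul_pt_iff]; ring
  have t2 : t • pa 0 = Pi := by rw [sl_smul_pt_iff]; ring
  have t3 : ∀ x, x ≠ 0 → t • pa x = pa x⁻¹ := by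
    intro x hx
    rw [sl_smul_pt_iff]
    have hxx : x * x⁻¹ = 1 := mul_inv_cancel₀ hx
    linear_combination hxx + h2
  have hs : ∀ p ∈ I, s • p ∈ I := by
    intro p hp
    simp only [I, Finset.mem_insert, Finset.mem_image] at hp ⊢
    rcases hp with rfl | rfl | ⟨x, hx, rfl⟩
    · exact Or.inl s1
    · exact Or.inr (Or.inl (by rw [s2, mul_zero]))
    · refine Or.inr (Or.inr ⟨ζ * x, ?_, (s2 x).symm⟩)
      rw [hSm] at hx ⊢
      obtain ⟨i, rfl⟩ := hx
      exact ⟨i + 1, by rw [pow_succ']⟩
  have ht : ∀ p ∈ I, t • p ∈ I := by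
    intro p hp
    simp only [I, Finset.mem_insert, Finset.mem_image] at hp ⊢
    rcases hp with rfl | rfl | ⟨x, hx, rfl⟩
    · exact Or.inr (Or.inl t1)
    · exact Or.inl t2
    · rw [hSm] at hx
      obtain ⟨i, rfl⟩ := hx
      refine Or.inr (Or.inr ⟨ζ ^ (4 * i), ?_, ?_⟩)
      · rw [hSm]
        exact ⟨4 * i, rfl⟩
      · rw [t3 _ (pow_ne_zero i hζ0)]
        congr 1
        apply eq_inv_of_mul_eq_one_left
        rw [← pow_add]
        have : 4 * i + i = 5 * i := by ring
        rw [this, pow_mul, hζ5, one_pow]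
  have hss := stab_of (G := G) hf hs
  have hts := stab_of (G := G) hf ht
  obtain ⟨H, hH⟩ : ∃ H : Subgroup G, H = stabilizer G (I.map f.symm.toEmbedding) := ⟨_, rfl⟩
  rw [← hH] at hss hts
  have h5 : 5 ∣ Nat.card H := by
    have h5 : orderOf (φ s : G) = 5 := by
      apply orderOf_eq_prime (p := 5) (hp := ⟨Nat.prime_five⟩)
      · rw [coe_pow_map, pow_succ, pow_succ, pow_succ, pow_two]
        have s00 : s.1 0 0 = (ζ : F) ^ 3 := rfl
        have s01 : s.1 0 1 = 0 := rfl
        have s10 : s.1 1 0 = 0 := rfl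
        have s11 : s.1 1 1 = (ζ : F) ^ 2 := rfl
        refine eq_one_of_trivial hf fun p => scalar_smul ?_ ?_ ?_ p
        · simp only [mul_val, s00, s01, s10, s11]
          ring
        · simp only [mul_val, s00, s01, s10, s11]
          ring
        · simp only [mul_val, s00, s01, s10, s11]
          have e1 : (ζ : F) ^ 15 = 1 := by
            have : (ζ : F) ^ 15 = ((ζ : F) ^ 5) ^ 3 := by ring
            rw [this, hζ5, one_pow]
          have e2 : (ζ : F) ^ 10 = 1 := by
            have : (ζ : F) ^ 10 = ((ζ : F) ^ 5) ^ 2 := by ring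
            rw [this, hζ5, one_pow]
          linear_combination e1 - e2
      · refine ne_one_of_moves hf (p := pa 1) ?_
        rw [s2, mul_one]
        intro h0
        have h6 := hpa h0
        have h7 : ζ = 1 := Units.ext h6
        rw [h7, orderOf_one] at hζ
        omega
    rw [← h5]
    exact Subgroup.orderOf_dvd_natCard H hss
  have h2' : 2 ∣ Nat.card H := by
    have h5 : orderOf (φ t : G) = 2 := by
      apply orderOf_eq_prime (p := 2) (hp := ⟨Nat.prime_two⟩)
      · rw [coe_pow_map, pow_two]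
        have t00 : t.1 0 0 = 0 := rfl
        have t01 : t.1 0 1 = 1 := rfl
        have t10 : t.1 1 0 = -1 := rfl
        have t11 : t.1 1 1 = 0 := rfl
        refine eq_one_of_trivial hf fun p => scalar_smul ?_ ?_ ?_ p
        · simp only [mul_val, t00, t01, t10, t11]
          ring
        · simp only [mul_val, t00, t01, t10, t11]
          ring
        · simp only [mul_val, t00, t01, t10, t11]
          ring
      · refine ne_one_of_moves hf (p := Pi) ?_
        rw [t1]
        exact (hPia 0).symm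
    rw [← h5]
    exact Subgroup.orderOf_dvd_natCard H hts
  have h10 : 10 ≤ Nat.card H := by
    have h6 : 10 ∣ Nat.card H := by omega
    exact Nat.le_of_dvd Nat.card_pos h6
  refine (Nat.mul_le_mul_left _ h10).trans ?_
  refine h.choose_mul_card_le' (by omega) H (J := I.map f.symm.toEmbedding) (by rw [Finset.card_map, hIc]) ?_
  intro g hg
  rw [hH] at hg
  exact hg

end Cfsg.Agent.H391.KPslD
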