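import Cfsg.Agent.H391.KOrb
import Cfsg.Agent.ClassicalGeometry.PSL2Basic
import Cfsg.Agent.S0280
import Cfsg.Agent.S0813
import Cfsg.Agent.S0815
import Cfsg.Agent.S1069
import Cfsg.Agent.S1163
import Cfsg.Agent.S2126
import Cfsg.Agent.S2127

/-!
# Rows `PSU₃(q)`, `Sz(q)`, `²G₂(q)`, `PSL₂(8)` on 28 points of S3564 (helper391)
-/

set_option autoImplicit false
set_option linter.unusedSectionVars false

namespace Cfsg.Agent.H391.KRankOne

open MulAction Cfsg.Agent.H397.KHom Cfsg.Agent.H384.TwoTrans Cfsg.Agent.H391.KOrb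

universe u v

theorem mul_choose_five (n : ℕ) :
    n * (n - 1) * (n - 2) * (n - 3) * (n - 4) = 120 * n.choose 5 := by
  have := Nat.descFactorial_eq_factorial_mul_choose n 5
  rw [show Nat.factorial 5 = 120 from rfl] at this
  rw [← this]
  simp only [Nat.descFactorial_succ, Nat.descFactorial_zero, Nat.sub_zero]
  ring

theorem mul_choose_four (n : ℕ) :
    n * (n - 1) * (n - 2) * (n - 3) = 24 * n.choose 4 := by
  have := Nat.descFactorial_eq_factorial_mul_choose n 4
  rw [show Nat.factorial 4 = 24 from rfl] at this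
  rw [← this]
  simp only [Nat.descFactorial_succ, Nat.descFactorial_zero, Nat.sub_zero]
  ring

theorem num_five {x B N : ℕ} (h : N ≤ B * (x * (x + 1))) (hx : 1 ≤ x)
    (hb : 600 * B < (x - 1) * (x - 2) * (x - 3)) : 5 * N < (x + 1).choose 5 := by
  have h1 := mul_choose_five (x + 1)
  have h2 : x + 1 - 1 = x := by omega
  have h3 : x + 1 - 2 = x - 1 := by omega
  have h4 : x + 1 - 3 = x - 2 := by omega
  have h5 : x + 1 - 4 = x - 3 := by omega
  rw [h2, h3, h4, h5] at h1
  have h6 : (600 * B) * (x * (x + 1)) < ((x - 1) * (x - 2) * (x - 3)) * (x * (x + 1)) :=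
    Nat.mul_lt_mul_of_pos_right hb (by positivity)
  have h7 : ((x - 1) * (x - 2) * (x - 3)) * (x * (x + 1)) = 120 * (x + 1).choose 5 := by
    rw [← h1]; ring
  have h8 : 600 * N ≤ (600 * B) * (x * (x + 1)) := by
    rw [mul_assoc]
    exact Nat.mul_le_mul_left _ h
  omega

theorem num_four {x B N : ℕ} (h : N ≤ B * (x * (x + 1))) (hx : 1 ≤ x)
    (hb : 96 * B < (x - 1) * (x - 2)) : 4 * N < (x + 1).choose 4 := by
  have h1 := mul_choose_four (x + 1)
  have h2 : x + 1 - 1 = x := by omega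
  have h3 : x + 1 - 2 = x - 1 := by omega
  have h4 : x + 1 - 3 = x - 2 := by omega
  rw [h2, h3, h4] at h1
  have h6 : (96 * B) * (x * (x + 1)) < ((x - 1) * (x - 2)) * (x * (x + 1)) :=
    Nat.mul_lt_mul_of_pos_right hb (by positivity)
  have h7 : ((x - 1) * (x - 2)) * (x * (x + 1)) = 24 * (x + 1).choose 4 := by
    rw [← h1]; ring
  have h8 : 96 * N ≤ (96 * B) * (x * (x + 1)) := by
    rw [mul_assoc]
    exact Nat.mul_le_mul_left _ h
  omega

variable {G : Type u} {Ω : Type v} [Group G] [MulAction G Ω] {T : Subgroup G} [DecidableEq Ω] [Fintype Ω]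

/-- From order bounds to `Homog`. -/
theorem of_bounds (A : AS G Ω T) {k : ℕ} (hk : 4 ≤ k) (h2k : 2 * k ≤ Fintype.card Ω + 1) (h : Hom G Ω k)
    (h4 : k = 4 → Homog G Ω 3) (h5 : k = 5 → Homog G Ω 4)
    (hb : 5 * Nat.card G < (Fintype.card Ω).choose 5) : Homog G Ω (k - 1) := by
  have := A.finG
  by_contra hnot
  rcases (show k = 4 ∨ k = 5 ∨ 6 ≤ k by omega) with rfl | rfl | h6
  · exact hnot (h4 rfl)
  · exact hnot (h5 rfl)
  · rcases bound h h6 h2k hnot with h1 | h1
    · omega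
    · have := h1 5 (by omega)
      omega

/-! ### `Out` -/

theorem card_mulAut_eq {X : Type*} [Group X] [Finite X] (hc : Subgroup.center X = ⊥) :
    Nat.card (MulAut X) = Nat.card (Cfsg.Out X) * Nat.card X := by
  have h1 := Subgroup.card_eq_card_quotient_mul_card_subgroup (Cfsg.Inn X)
  rw [h1]
  congr 1
  have hinj : Function.Injective (MulAut.conj : X →* MulAut X) := by
    rw [← MonoidHom.ker_eq_bot_iff, ← hc]
    ext x
    rw [MonoidHom.mem_ker, Subgroup.mem_center_iff]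
    constructor
    · intro h y
      have := congrArg (fun f : MulAut X => f y) h
      simp only [MulAut.conj_apply, MulAut.one_apply] at this
      rw [mul_inv_eq_iff_eq_mul] at this
      exact this.symm
    · intro h
      ext y
      rw [MulAut.conj_apply, MulAut.one_apply, mul_inv_eq_iff_eq_mul]
      exact (h y).symm
  exact (Nat.card_congr (MonoidHom.ofInjective hinj).toEquiv).symm

theorem center_eq_bot_of_equiv (A : AS G Ω T) {X : Type*} [Group X] (e : ↥T ≃* X) : Subgroup.center X = ⊥ := by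
  have := A.simple
  have h1 : Subgroup.center ↥T = ⊥ := by
    rcases IsSimpleGroup.eq_bot_or_eq_top_of_normal (Subgroup.center ↥T) inferInstance with h | h
    · exact h
    · exfalso
      apply A.nonab
      exact ⟨⟨fun x y => by
        have : y ∈ Subgroup.center ↥T := h ▸ Subgroup.mem_top y
        exact (Subgroup.mem_center_iff.1 this) x⟩⟩
  rw [eq_bot_iff]
  intro x hx
  rw [Subgroup.mem_center_iff] at hx
  have : e.symm x ∈ Subgroup.center ↥T := by
    rw [Subgroup.mem_center_iff]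
    intro y
    apply e.injective
    rw [map_mul, map_mul, e.apply_symm_apply]
    exact hx _
  rw [h1, Subgroup.mem_bot] at this
  rw [Subgroup.mem_bot, ← e.apply_symm_apply x, this, map_one]

theorem card_le_out (A : AS G Ω T) {X : Type*} [Group X] [Finite X] (e : ↥T ≃* X) :
    Nat.card G ≤ Nat.card (Cfsg.Out X) * Nat.card X := by
  have := A.finG
  have h1 := Cfsg.Agent.H436.TT.card_dvd_aut A
  rw [Cfsg.Agent.H436.TT.card_mulAut_congr e, card_mulAut_eq (center_eq_bot_of_equiv A e)] at h1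
  have hfin : Finite (MulAut X) := inferInstance
  have hout : 0 < Nat.card (Cfsg.Out X) := by
    have : Finite (Cfsg.Out X) := inferInstance
    exact Nat.card_pos
  exact Nat.le_of_dvd (Nat.mul_pos hout Nat.card_pos) h1

/-! ### `PSL₂(8)` on 28 points -/

theorem psl2_8 (A : AS G Ω T) {F : Type} [Field F] [Fintype F] (hF : Fintype.card F = 8)
    (e : Nonempty (↥T ≃* Matrix.ProjectiveSpecialLinearGroup (Fin 2) F)) (hn : Fintype.card Ω = 28)
    {k : ℕ} (hk : 4 ≤ k) (h2k : 2 * k ≤ Fintype.card Ω + 1) (h : Hom G Ω k) : Homog G Ω (k - 1) := by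
  have := A.finG
  obtain ⟨e⟩ := e
  have hcard : Nat.card G ≤ 1512 := by
    have h1 := Cfsg.Agent.H436.TT.card_dvd_aut A
    have : Fact (Nat.Prime 2) := ⟨Nat.prime_two⟩
    rw [Cfsg.Agent.H436.TT.card_mulAut_congr e, Cfsg.Agent.S0813.result 2 3 (by norm_num) (by rw [hF]; norm_num) 2
      le_rfl (by norm_num), Cfsg.Agent.ClassicalGeometry.PSL2Basic.card_PGL2, hF] at h1
    exact Nat.le_of_dvd (by norm_num) h1
  refine of_bounds A hk h2k h ?_ ?_ ?_
  · rintro rfl
    have h1 := homog_of_dvd_card (p := 2) (a := 2) A Nat.prime_two h (Or.inl (by rw [hn]; norm_num))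
    exact h1
  · rintro rfl
    by_contra hnot
    have := bound_five h (by omega) hnot
    rw [hn, show Nat.choose 28 4 = 20475 by decide] at this
    omega
  · rw [hn, show Nat.choose 28 5 = 98280 by decide]
    omega

/-! ### `Sz(q)` -/

theorem sz (A : AS G Ω T) {F : Type} [Field F] [Fintype F] {m : ℕ} (hm : 1 ≤ m)
    (hF : Fintype.card F = 2 ^ (2 * m + 1)) (e : Nonempty (↥T ≃* ↥(Cfsg.Lie.Sz F (2 ^ (m + 1)))))
    (hn : Fintype.card Ω = Fintype.card F ^ 2 + 1)
    {k : ℕ} (hk : 4 ≤ k) (h2k : 2 * k ≤ Fintype.card Ω + 1) (h : Hom G Ω k) : Homog G Ω (k - 1) := by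
  obtain ⟨e⟩ := e
  have := A.finG
  have hfX : Finite ↥(Cfsg.Lie.Sz F (2 ^ (m + 1))) := Finite.of_equiv _ e.toEquiv
  have h1 := card_le_out A e
  rw [Cfsg.Agent.S2126.result hm hF, (Cfsg.Agent.S1163.result hm hF).1] at h1
  set q := 2 ^ (2 * m + 1) with hq
  have hq8 : 8 ≤ q := by
    calc 8 = 2 ^ 3 := by norm_num
      _ ≤ _ := Nat.pow_le_pow_right (by norm_num) (by omega)
  have hmq : 2 * m + 1 ≤ q := Nat.lt_two_pow_self.le
  rw [hF] at hn
  have hsq : q ^ 2 = q * q := sq q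
  refine of_bounds A hk h2k h ?_ ?_ ?_
  · rintro rfl
    have h2 := homog_of_dvd_card (p := 2) (a := 2) A Nat.prime_two h (Or.inr (by
      rw [hn, Nat.add_sub_cancel, hq, ← pow_mul]
      exact pow_dvd_pow 2 (by omega)))
    exact h2
  · rintro rfl
    have h5 : 5 ∣ q ^ 2 + 1 := by
      have h6 : q ^ 2 = 4 * 16 ^ m := by
        rw [hq, ← pow_mul, show (2 * m + 1) * 2 = 2 + 4 * m by ring, pow_add, pow_mul]
        norm_num
      rw [h6]
      have : 16 ^ m % 5 = 1 := by
        rw [Nat.pow_mod]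
        norm_num
      omega
    have h2 := homog_of_dvd_card (p := 5) (a := 1) A (by norm_num) (by simpa using h) (Or.inl (by
      rw [hn, pow_one]; exact h5))
    simpa using h2
  · rw [hn]
    refine num_five (B := q * (q - 1)) (h1.trans ?_) (by nlinarith) ?_
    · calc (2 * m + 1) * (q ^ 2 * (q - 1) * (q ^ 2 + 1)) ≤ q * (q ^ 2 * (q - 1) * (q ^ 2 + 1)) :=
          Nat.mul_le_mul_right _ hmq
        _ = _ := by ring
    · clear_value q
      obtain ⟨t, rfl⟩ : ∃ t, q = t + 8 := ⟨q - 8, by omega⟩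
      have e1 : t + 8 - 1 = t + 7 := by omega
      have e2 : (t + 8) ^ 2 - 1 = t ^ 2 + 16 * t + 63 := by rw [show (t + 8) ^ 2 = t ^ 2 + 16 * t + 64 by ring]; omega
      have e3 : (t + 8) ^ 2 - 2 = t ^ 2 + 16 * t + 62 := by rw [show (t + 8) ^ 2 = t ^ 2 + 16 * t + 64 by ring]; omega
      have e4 : (t + 8) ^ 2 - 3 = t ^ 2 + 16 * t + 61 := by rw [show (t + 8) ^ 2 = t ^ 2 + 16 * t + 64 by ring]; omega
      rw [e1, e2, e3, e4]
      have f1 : 600 * ((t + 8) * (t + 7)) ≤ 600 * (t ^ 2 + 16 * t + 63) := by nlinarith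
      have f2 : 63 ≤ t ^ 2 + 16 * t + 63 := by omega
      have f3 : 61 * 61 ≤ (t ^ 2 + 16 * t + 62) * (t ^ 2 + 16 * t + 61) :=
        Nat.mul_le_mul (by omega) (by omega)
      have f4 := Nat.mul_le_mul_left (t ^ 2 + 16 * t + 63) f3
      have f5 : (t ^ 2 + 16 * t + 63) * ((t ^ 2 + 16 * t + 62) * (t ^ 2 + 16 * t + 61)) =
        (t ^ 2 + 16 * t + 63) * (t ^ 2 + 16 * t + 62) * (t ^ 2 + 16 * t + 61) := by ring
      omega

/-! ### `²G₂(q)` -/

theorem ree (A : AS G Ω T) {K : Type} [Field K] [Fintype K] {m : ℕ} (hm : 1 ≤ m)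
    (hK : Fintype.card K = 3 ^ (2 * m + 1)) (e : Nonempty (↥T ≃* ↥(Cfsg.Lie.twistedG2 K (3 ^ m))))
    (hn : Fintype.card Ω = Fintype.card K ^ 3 + 1)
    {k : ℕ} (hk : 4 ≤ k) (h2k : 2 * k ≤ Fintype.card Ω + 1) (h : Hom G Ω k) : Homog G Ω (k - 1) := by
  obtain ⟨e⟩ := e
  have := A.finG
  have hfX : Finite ↥(Cfsg.Lie.twistedG2 K (3 ^ m)) := Finite.of_equiv _ e.toEquiv
  have h1 := card_le_out A e
  rw [Cfsg.Agent.S2127.result hm hK, Cfsg.Agent.S1069.result hK] at h1
  set q := 3 ^ (2 * m + 1) with hq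
  have hq27 : 27 ≤ q := by
    calc 27 = 3 ^ 3 := by norm_num
      _ ≤ _ := Nat.pow_le_pow_right (by norm_num) (by omega)
  have hmq : 2 * m + 1 ≤ q := (Nat.lt_pow_self (by norm_num)).le
  rw [hK] at hn
  have hB : Nat.card G ≤ q * (q - 1) * (q ^ 3 * (q ^ 3 + 1)) := by
    refine h1.trans ?_
    calc (2 * m + 1) * (q ^ 3 * (q - 1) * (q ^ 3 + 1)) ≤ q * (q ^ 3 * (q - 1) * (q ^ 3 + 1)) :=
          Nat.mul_le_mul_right _ hmq
      _ = _ := by ring
  have hx : 27 * q ^ 2 ≤ q ^ 3 := by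
    rw [pow_succ q 2, mul_comm]
    exact Nat.mul_le_mul_left _ hq27
  have hB1 : q * (q - 1) ≤ q ^ 2 := by
    rw [sq]; exact Nat.mul_le_mul_left _ (by omega)
  have hq2 : 729 ≤ q ^ 2 := by nlinarith
  refine of_bounds A hk h2k h ?_ ?_ ?_
  · rintro rfl
    have h4 : 4 ∣ q ^ 3 + 1 := by
      have h6 : q ^ 3 = 27 * 729 ^ m := by
        rw [hq, ← pow_mul, show (2 * m + 1) * 3 = 3 + 6 * m by ring, pow_add, pow_mul]
        norm_num
      rw [h6]
      have : 729 ^ m % 4 = 1 := by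
        rw [Nat.pow_mod]
        norm_num
      omega
    have h2 := homog_of_dvd_card (p := 2) (a := 2) A Nat.prime_two h (Or.inl (by rw [hn]; exact h4))
    exact h2
  · rintro rfl
    by_contra hnot
    have h5 := bound_five h (by rw [hn]; omega) hnot
    rw [hn] at h5
    have h6 := num_four (x := q ^ 3) hB (by omega) (by
      have e1 : 26 * q ^ 2 ≤ q ^ 3 - 1 := by omega
      have e2 : 26 * q ^ 2 ≤ q ^ 3 - 2 := by omega
      have e3 := Nat.mul_le_mul e1 e2
      nlinarith)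
    omega
  · rw [hn]
    refine num_five (x := q ^ 3) hB (by omega) ?_
    have e1 : 26 * q ^ 2 ≤ q ^ 3 - 1 := by omega
    have e2 : 26 * q ^ 2 ≤ q ^ 3 - 2 := by omega
    have e4 : 26 * q ^ 2 ≤ q ^ 3 - 3 := by omega
    have e3 := Nat.mul_le_mul (Nat.mul_le_mul e1 e2) e4
    have e5 : 600 * (q * (q - 1)) < 26 * q ^ 2 * (26 * q ^ 2) * (26 * q ^ 2) := by
      have : 26 * q ^ 2 * (26 * q ^ 2) * (26 * q ^ 2) = q ^ 2 * (17576 * (q ^ 2 * q ^ 2)) := by ring
      rw [this]
      have : 1 ≤ q ^ 2 * q ^ 2 := by nlinarith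
      nlinarith
    omega

/-! ### `PSU₃(q)` -/

theorem two_mul_le_two_pow {f : ℕ} (hf : 0 < f) : 2 * f ≤ 2 ^ f := by
  obtain ⟨t, rfl⟩ : ∃ t, f = t + 1 := ⟨f - 1, by omega⟩
  have : t < 2 ^ t := Nat.lt_two_pow_self
  rw [pow_succ]; omega

open scoped Pointwise in
theorem zpowers_smul_eq {y : G} {I : Finset Ω} (h : ∀ x ∈ I, y • x ∈ I) :
    ∀ g ∈ Subgroup.zpowers y, g • I = I := by
  have h1 : y • I = I := by
    apply Finset.eq_of_subset_of_card_le
    · exact smul_subset_iff.2 h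
    · rw [Finset.card_smul_finset]
  have h2 : y ∈ stabilizer G I := h1
  intro g hg
  exact (Subgroup.zpowers_le.2 h2) hg

open scoped Pointwise in
/-- a fixed point and an orbit of length 3 -/
theorem exists_three_one [FaithfulSMul G Ω] {y : G} (hy : orderOf y = 3) (hn : Fintype.card Ω % 3 = 1) :
    ∃ I : Finset Ω, I.card = 4 ∧ ∀ g ∈ Subgroup.zpowers y, g • I = I := by
  have : Fact (Nat.Prime 3) := ⟨Nat.prime_three⟩
  have hy1 : y ≠ 1 := by rintro rfl; rw [orderOf_one] at hy; omega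
  have hy3 : y ^ 3 = 1 := by rw [← hy]; exact pow_orderOf_eq_one y
  obtain ⟨x, hx⟩ : ∃ x : Ω, y • x ≠ x := by
    by_contra hcon
    push Not at hcon
    exact hy1 (eq_of_smul_eq_smul (fun x : Ω => by rw [hcon x, one_smul]))
  have hp : IsPGroup 3 (Subgroup.zpowers y) := by
    apply IsPGroup.of_card (n := 1)
    rw [Nat.card_zpowers, hy, pow_one]
  obtain ⟨a, ha⟩ := hp.nonempty_fixed_point_of_prime_not_dvd_card Ω (by rw [Nat.card_eq_fintype_card]; omega)
  have hya : y • a = a := ha ⟨y, Subgroup.mem_zpowers y⟩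
  have h3 : y • y • y • x = x := by
    have h : y • y • y • x = (y ^ 3) • x := by
      rw [pow_succ, pow_two, mul_smul, mul_smul]
    rw [h, hy3, one_smul]
  have hne1 : y • y • x ≠ x := by
    intro h
    rw [h] at h3
    exact hx h3
  have hax : a ≠ x := by rintro rfl; exact hx hya
  have hax1 : a ≠ y • x := by
    intro h
    rw [← hya] at h
    exact hax (smul_left_cancel y h)
  have hax2 : a ≠ y • y • x := by
    intro h
    rw [← hya] at h
    exact hax1 (smul_left_cancel y h)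
  refine ⟨{a, x, y • x, y • y • x}, ?_, zpowers_smul_eq ?_⟩
  · rw [Finset.card_insert_of_notMem, Finset.card_insert_of_notMem, Finset.card_insert_of_notMem,
      Finset.card_singleton]
    · rw [Finset.mem_singleton]
      intro h
      exact hx (smul_left_cancel y h).symm
    · rw [Finset.mem_insert, Finset.mem_singleton]
      rintro (h | h)
      · exact hx h.symm
      · exact hne1 h.symm
    · rw [Finset.mem_insert, Finset.mem_insert, Finset.mem_singleton]
      rintro (h | h | h)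
      · exact hax h
      · exact hax1 h
      · exact hax2 h
  · intro z hz
    simp only [Finset.mem_insert, Finset.mem_singleton] at hz ⊢
    rcases hz with rfl | rfl | rfl | rfl
    · exact Or.inl hya
    · exact Or.inr (Or.inr (Or.inl rfl))
    · exact Or.inr (Or.inr (Or.inr rfl))
    · exact Or.inr (Or.inl h3)

section element

variable {F : Type*} [Field F]

/-- the signed permutation matrix of order 4 -/
def wm (F : Type*) [Field F] : Matrix.SpecialLinearGroup (Fin 3) F :=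
  ⟨!![0, 1, 0; -1, 0, 0; 0, 0, 1], by simp [Matrix.det_fin_three]⟩

def wm' (F : Type*) [Field F] : Matrix.SpecialLinearGroup (Fin 3) F :=
  ⟨!![1, 0, 0; 0, 0, 1; 0, -1, 0], by simp [Matrix.det_fin_three]⟩

theorem wm_mem {q : ℕ} (hq : Odd q) : wm F ∈ Cfsg.SU 3 F q := by
  intro u v
  change Cfsg.hermForm 3 F q ((wm F).1.mulVec u) ((wm F).1.mulVec v) = _
  simp [wm, Cfsg.hermForm, Matrix.mulVec, dotProduct, Fin.sum_univ_three, hq.neg_pow]
  ring

theorem wm'_mem {q : ℕ} (hq : Odd q) : wm' F ∈ Cfsg.SU 3 F q := by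
  intro u v
  change Cfsg.hermForm 3 F q ((wm' F).1.mulVec u) ((wm' F).1.mulVec v) = _
  simp [wm', Cfsg.hermForm, Matrix.mulVec, dotProduct, Fin.sum_univ_three, hq.neg_pow]
  ring

theorem wm_sq : (wm F * wm F).1 = !![-1, 0, 0; 0, -1, 0; 0, 0, 1] := by
  rw [Matrix.SpecialLinearGroup.coe_mul]
  ext i j
  fin_cases i <;> fin_cases j <;> simp [wm, Matrix.mul_apply, Fin.sum_univ_three]

theorem wm_four : wm F ^ 4 = 1 := by
  have h : wm F ^ 4 = (wm F * wm F) * (wm F * wm F) := by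
    rw [← sq, ← sq, ← pow_mul]
  rw [h]
  apply Subtype.ext
  rw [Matrix.SpecialLinearGroup.coe_mul, wm_sq]
  ext i j
  fin_cases i <;> fin_cases j <;> simp [Matrix.mul_apply, Fin.sum_univ_three]

theorem not_comm (h2 : (2 : F) ≠ 0) : wm F * wm F * wm' F ≠ wm' F * (wm F * wm F) := by
  intro h
  have h1 := congrArg (fun A : Matrix.SpecialLinearGroup (Fin 3) F => A.1 1 2) h
  simp only [Matrix.SpecialLinearGroup.coe_mul (wm F * wm F), Matrix.SpecialLinearGroup.coe_mul (wm' F), wm_sq] at h1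
  simp [wm', Matrix.mul_apply, Fin.sum_univ_three] at h1
  apply h2
  linear_combination -h1

theorem exists_order_four {q : ℕ} (hq : Odd q) (h2 : (2 : F) ≠ 0) : ∃ x : Cfsg.PSU 3 F q, orderOf x = 4 := by
  let w : Cfsg.SU 3 F q := ⟨wm F, wm_mem hq⟩
  let w' : Cfsg.SU 3 F q := ⟨wm' F, wm'_mem hq⟩
  refine ⟨QuotientGroup.mk w, ?_⟩
  have : Fact (Nat.Prime 2) := ⟨Nat.prime_two⟩
  refine orderOf_eq_prime_pow (p := 2) (n := 1) ?_ ?_
  · intro h
    rw [pow_one, ← QuotientGroup.mk_pow, QuotientGroup.eq_one_iff, Subgroup.mem_center_iff] at h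
    have h1 := congrArg Subtype.val (h w')
    apply not_comm (F := F) h2
    rw [sq] at h1
    exact h1.symm
  · rw [← QuotientGroup.mk_pow]
    have h1 : w ^ 2 ^ (1 + 1) = 1 := Subtype.ext wm_four
    rw [h1]
    rfl

end element

theorem psu (A : AS G Ω T) {F : Type} [Field F] [Fintype F] {q : ℕ} (hq : 3 ≤ q)
    (hF : Fintype.card F = q ^ 2) (e : Nonempty (↥T ≃* Cfsg.PSU 3 F q))
    (hn : Fintype.card Ω = q ^ 3 + 1)
    {k : ℕ} (hk : 4 ≤ k) (h2k : 2 * k ≤ Fintype.card Ω + 1) (h : Hom G Ω k) : Homog G Ω (k - 1) := by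
  obtain ⟨e⟩ := e
  have := A.finG
  have := A.faithful
  -- q is a prime power
  obtain ⟨p, f', hp, hf', hpf⟩ := (isPrimePow_nat_iff _).1 (FiniteField.isPrimePow_card F)
  have hpp : IsPrimePow q := by
    have := FiniteField.isPrimePow_card F
    rw [hF] at this
    exact (isPrimePow_pow_iff (by norm_num)).mp this
  obtain ⟨p, f, hp, hf, hpf⟩ := (isPrimePow_nat_iff _).1 hpp
  have hfp : Fact p.Prime := ⟨hp⟩
  have h1 := Cfsg.Agent.H436.TT.card_dvd_aut A
  rw [Cfsg.Agent.H436.TT.card_mulAut_congr e, Cfsg.Agent.S0815.result p f hf hpf.symm hF 3 le_rfl (by omega)] at h1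
  have h2 := Cfsg.Agent.S0280.result hF 3 (by norm_num)
  norm_num [Finset.prod_range_succ, Nat.even_iff] at h2
  have h3 : Nat.gcd 3 (q + 1) * (2 * f) * Nat.card (Cfsg.PSU 3 F q) = 2 * f * (q ^ 3 * ((q ^ 2 - 1) * (q ^ 3 + 1))) := by
    refine Nat.eq_of_mul_eq_mul_left (show 0 < q + 1 by omega) ?_
    calc (q + 1) * (Nat.gcd 3 (q + 1) * (2 * f) * Nat.card (Cfsg.PSU 3 F q)) =
        2 * f * (Nat.gcd 3 (q + 1) * ((q + 1) * Nat.card (Cfsg.PSU 3 F q))) := by ring
      _ = _ := by rw [h2]; ring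
  rw [h3] at h1
  have hqsq : 9 ≤ q ^ 2 := by nlinarith
  have hq3 : 27 ≤ q ^ 3 := by
    calc 27 = 3 ^ 3 := by norm_num
      _ ≤ q ^ 3 := Nat.pow_le_pow_left hq 3
  have hle : Nat.card G ≤ 2 * f * (q ^ 3 * ((q ^ 2 - 1) * (q ^ 3 + 1))) := by
    refine Nat.le_of_dvd ?_ h1
    have : 0 < q ^ 2 - 1 := by omega
    positivity
  have hfq : 2 * f ≤ q := by
    rw [← hpf]
    calc 2 * f ≤ 2 ^ f := two_mul_le_two_pow hf
      _ ≤ p ^ f := Nat.pow_le_pow_left hp.two_le f
  have hB : Nat.card G ≤ q * (q ^ 2 - 1) * (q ^ 3 * (q ^ 3 + 1)) := by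
    refine hle.trans ?_
    calc 2 * f * (q ^ 3 * ((q ^ 2 - 1) * (q ^ 3 + 1))) ≤ q * (q ^ 3 * ((q ^ 2 - 1) * (q ^ 3 + 1))) :=
          Nat.mul_le_mul_right _ hfq
      _ = _ := by ring
  have hBx : q * (q ^ 2 - 1) ≤ q ^ 3 := by
    calc q * (q ^ 2 - 1) ≤ q * q ^ 2 := Nat.mul_le_mul_left _ (by omega)
      _ = _ := by ring
  refine of_bounds A hk h2k h ?_ ?_ ?_
  · rintro rfl
    rcases Nat.even_or_odd q with hev | hodd
    · have h4 : 2 ^ 2 ∣ q ^ 3 := by
        obtain ⟨t, ht⟩ := hev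
        exact ⟨2 * t ^ 3, by rw [ht]; ring⟩
      exact homog_of_dvd_card (p := 2) (a := 2) A Nat.prime_two h (Or.inr (by rw [hn, Nat.add_sub_cancel]; exact h4))
    · have h20 : (2 : F) ≠ 0 := (Cfsg.Agent.ClassicalGeometry.PSL2Basic.two_ne_zero_iff_odd F).2 (by
        rw [hF]; exact hodd.pow)
      obtain ⟨x, hx⟩ := exists_order_four (F := F) hodd h20
      have h5 : orderOf ((e.symm x : ↥T) : G) = 2 ^ (1 + 1) := by
        rw [Subgroup.orderOf_coe, ← MulEquiv.orderOf_eq e, e.apply_symm_apply, hx]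
        norm_num
      exact homog_of_orderOf (p := 2) (a := 1) Nat.prime_two h h5
  · rintro rfl
    rcases (show q = 3 ∨ q = 4 ∨ 5 ≤ q by omega) with rfl | rfl | h5
    · -- q = 3
      by_contra hnot
      have hf1 : f = 1 := by
        rcases Nat.lt_or_ge f 2 with h | h
        · omega
        · exfalso
          have h4 : 2 ^ 2 ≤ p ^ f := (Nat.pow_le_pow_left hp.two_le 2).trans (Nat.pow_le_pow_right hp.pos h)
          rw [hpf] at h4
          omega
      rw [hf1] at hle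
      norm_num at hle
      have h3G : 3 ∣ Nat.card G := by
        have := Cfsg.Agent.H436.TT.mul_dvd_card A
        rw [Nat.card_eq_fintype_card (α := Ω), hn] at this
        exact (by norm_num : 3 ∣ (3 ^ 3 + 1) * (3 ^ 3 + 1 - 1)).trans this
      have : Fact (Nat.Prime 3) := ⟨Nat.prime_three⟩
      obtain ⟨y, hy⟩ := exists_prime_orderOf_dvd_card' 3 h3G
      obtain ⟨I, hI, hI'⟩ := exists_three_one (Ω := Ω) hy (by rw [hn]; norm_num)
      have h6 := h.choose_mul_card_le (by norm_num) (by rw [hn]; norm_num) (Subgroup.zpowers y) hI hI'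
      rw [Nat.card_zpowers, hy, hn] at h6
      norm_num [Nat.choose] at h6
      omega
    · -- q = 4
      have h2 := homog_of_dvd_card (p := 5) (a := 1) A (by norm_num) (by simpa using h) (Or.inl (by
        rw [hn]; norm_num))
      simpa using h2
    · by_contra hnot
      have h6 := bound_five h (by rw [hn]; omega) hnot
      rw [hn] at h6
      have hq5 : 125 ≤ q ^ 3 := by
        calc 125 = 5 ^ 3 := by norm_num
          _ ≤ q ^ 3 := Nat.pow_le_pow_left h5 3
      have h7 := num_four (x := q ^ 3) hB (by omega) (by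
        have e1 : 123 * (q ^ 3 - 2) ≤ (q ^ 3 - 1) * (q ^ 3 - 2) := Nat.mul_le_mul_right _ (by omega)
        omega)
      omega
  · rw [hn]
    refine num_five (x := q ^ 3) hB (by omega) ?_
    rcases (show q = 3 ∨ 4 ≤ q by omega) with rfl | h4
    · norm_num
    · have hq4 : 64 ≤ q ^ 3 := by
        calc 64 = 4 ^ 3 := by norm_num
          _ ≤ q ^ 3 := Nat.pow_le_pow_left h4 3
      have e1 : 63 * 61 ≤ (q ^ 3 - 1) * (q ^ 3 - 3) := Nat.mul_le_mul (by omega) (by omega)
      have e2 := Nat.mul_le_mul_right (q ^ 3 - 2) e1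
      have e3 : (q ^ 3 - 1) * (q ^ 3 - 3) * (q ^ 3 - 2) = (q ^ 3 - 1) * (q ^ 3 - 2) * (q ^ 3 - 3) := by ring
      omega

end Cfsg.Agent.H391.KRankOne
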