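import Cfsg.Agent.H391.KPslA
import Cfsg.Agent.H391.KRankOne

/-!
# Row `PSL_2(q)` of S3564: numbers (helper391)
-/

set_option autoImplicit false
set_option linter.unusedSectionVars false

namespace Cfsg.Agent.H391.KPslNum

open MulAction Cfsg.Agent.H397.KHom Cfsg.Agent.H384.TwoTrans Cfsg.Agent.H391.KOrb Cfsg.Agent.H391.KPslA
open scoped Pointwise

def ch (n j : ℕ) : ℕ := n.descFactorial j / j.factorial

theorem ch_eq (n j : ℕ) : ch n j = n.choose j := (Nat.choose_eq_descFactorial_div_factorial n j).symm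

def syl (n k N : ℕ) : Bool :=
  [2, 3, 5].any fun p => (List.range 8).any fun a => (List.range 8).any fun b =>
    decide (N % p ^ (a + b) = 0) &&
      ((decide (ch n (k - 1) % p ^ (b + 1) ≠ 0) || decide (ch n k % p ^ (b + 1) ≠ 0)) &&
        decide (k * N < ch n (k - 1) * p ^ a))

def chk6 (n k N : ℕ) : Bool :=
  (decide (k = 7 ∨ k = 11 ∨ k = 13 ∨ k = 17) && decide (N % k = 0)) ||
    ((List.range k).any fun j => decide (5 * N < ch n j)) || syl n k N

section sound

variable {G Ω : Type*} [Group G] [MulAction G Ω] [DecidableEq Ω] [Fintype Ω]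

theorem syl_sound [Finite G] {k : ℕ} (h : Hom G Ω k) (hk : 1 ≤ k) (hn : k ≤ Fintype.card Ω)
    (hs : syl (Fintype.card Ω) k (Nat.card G) = true) : False := by
  simp only [syl, List.any_eq_true, Bool.and_eq_true, Bool.or_eq_true, decide_eq_true_eq] at hs
  obtain ⟨p, hp, a, -, b, -, h1, h2, h3⟩ := hs
  have hpp : p.Prime := by
    simp only [List.mem_cons, List.not_mem_nil, or_false] at hp
    rcases hp with rfl | rfl | rfl <;> norm_num
  rw [ch_eq, ch_eq] at h2
  rw [ch_eq] at h3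
  have h4 : (Fintype.card Ω).choose (k - 1) * p ^ a ≤ k * Nat.card G := by
    rcases h2 with h2 | h2
    · exact sylow_trick h hk hn (Or.inl rfl) hpp (Nat.dvd_of_mod_eq_zero h1)
        (fun h0 => h2 (Nat.mod_eq_zero_of_dvd h0))
    · exact sylow_trick h hk hn (Or.inr rfl) hpp (Nat.dvd_of_mod_eq_zero h1)
        (fun h0 => h2 (Nat.mod_eq_zero_of_dvd h0))
  omega

theorem homog_dvd {j : ℕ} (h : Homog G Ω j) (hj : j ≤ Fintype.card Ω) :
    (Fintype.card Ω).choose j ∣ Nat.card G := by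
  have h1 := homog_iff_pretransitive.1 h
  have h2 : Nat.card (Set.powersetCard Ω j) = (Fintype.card Ω).choose j := by
    rw [Set.powersetCard.card, Nat.card_eq_fintype_card]
  obtain ⟨I, -, hI⟩ := Finset.exists_subset_card_eq (s := (Finset.univ : Finset Ω))
        (n := j) (by rw [Finset.card_univ]; omega)
  rw [← h2, ← index_stabilizer_of_transitive G (⟨I, hI⟩ : Set.powersetCard Ω j)]
  exact Subgroup.index_dvd_card _

theorem bound' [Finite G] {k : ℕ} (h : Hom G Ω k) (hk : 6 ≤ k) (hn : 2 * k ≤ Fintype.card Ω + 1)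
    (hnot : ¬ Homog G Ω (k - 1)) : (Fintype.card Ω).choose 5 ∣ Nat.card G ∨
      ∀ j ≤ k - 1, (Fintype.card Ω).choose j ≤ 5 * Nat.card G := by
  obtain ⟨s, hs3, hsk, hs1, hs2, hmono, -⟩ := h.exists_level (by omega) hn (by omega) hnot
  by_cases h5 : s ≤ 5
  · right
    intro j hj
    refine (choose_le_numOrb_mul j).trans (Nat.mul_le_mul_right _ ((hmono j hj).trans h5))
  · left
    have h6 : Homog G Ω 5 := hs1.mono (by omega) (by omega)
    exact homog_dvd h6 (by omega)

theorem chk6_sound [Finite G] [FaithfulSMul G Ω] {k : ℕ} (h : Hom G Ω k) (hk : 6 ≤ k)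
    (hn : 2 * k ≤ Fintype.card Ω + 1) (hd : Nat.card G % ch (Fintype.card Ω) 5 ≠ 0)
    (hs : chk6 (Fintype.card Ω) k (Nat.card G) = true) : Homog G Ω (k - 1) := by
  simp only [chk6, Bool.or_eq_true, Bool.and_eq_true, decide_eq_true_eq, List.any_eq_true, List.mem_range] at hs
  rcases hs with (⟨h1, h2⟩ | ⟨j, hj, h1⟩) | h1
  · refine homog_of_prime_dvd ?_ h (Nat.dvd_of_mod_eq_zero h2)
    rcases h1 with rfl | rfl | rfl | rfl <;> norm_num
  · by_contra hnot
    rcases bound' h hk hn hnot with h2 | h2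
    · rw [ch_eq] at hd
      exact hd (Nat.mod_eq_zero_of_dvd h2)
    · have := h2 j (by omega)
      rw [ch_eq] at h1
      omega
  · exact absurd h1 (fun h1 => syl_sound h (by omega) (by omega) h1)

end sound

/-- the relevant `(q, gcd(2, q-1), f)` -/
def lst : List (ℕ × ℕ × ℕ) :=
  [(11, 2, 1), (13, 2, 1), (16, 1, 4), (17, 2, 1), (19, 2, 1), (23, 2, 1), (25, 2, 2), (27, 2, 3), (32, 1, 5)]

def numB6 (x : ℕ × ℕ × ℕ) (k d : ℕ) : Bool :=
  decide (k < 6) || decide (x.1 + 2 < 2 * k) || decide (d = 0) || decide ((x.2.1 * x.2.2) % d ≠ 0) ||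
    decide (x.1 = 11 ∧ k = 6) || decide (x.1 = 16 ∧ k = 7) ||
      (decide ((d * (x.1 * (x.1 ^ 2 - 1) / x.2.1)) % ch (x.1 + 1) 5 ≠ 0) &&
        chk6 (x.1 + 1) k (d * (x.1 * (x.1 ^ 2 - 1) / x.2.1)))

theorem num6_dec : (lst.all fun x => (List.range 18).all fun k => (List.range 7).all fun d => numB6 x k d) = true := by
  decide +kernel

theorem num6 {x : ℕ × ℕ × ℕ} (hx : x ∈ lst) {k : ℕ} (hk : k < 18) (h6 : 6 ≤ k) (h2k : 2 * k ≤ x.1 + 2) {d : ℕ}
    (hd : d < 7) (hd0 : d ≠ 0) (hdd : (x.2.1 * x.2.2) % d = 0) :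
    ((x.1 = 11 ∧ k = 6) ∨ (x.1 = 16 ∧ k = 7) ∨
      ((d * (x.1 * (x.1 ^ 2 - 1) / x.2.1)) % ch (x.1 + 1) 5 ≠ 0 ∧
        chk6 (x.1 + 1) k (d * (x.1 * (x.1 ^ 2 - 1) / x.2.1)) = true)) := by
  have h := num6_dec
  rw [List.all_eq_true] at h
  have h := h x hx
  rw [List.all_eq_true] at h
  have h := h k (List.mem_range.2 hk)
  rw [List.all_eq_true] at h
  have h := h d (List.mem_range.2 hd)
  simp only [numB6, Bool.or_eq_true, Bool.and_eq_true, decide_eq_true_eq] at h
  rcases h with (((((h | h) | h) | h) | h) | h) | h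
  · omega
  · omega
  · exact absurd h hd0
  · exact absurd hdd h
  · exact Or.inl h
  · exact Or.inr (Or.inl h)
  · exact Or.inr (Or.inr h)

def isP (p : ℕ) : Bool := decide (2 ≤ p) && (List.range p).all (fun m => decide (m < 2) || decide (p % m ≠ 0))

theorem isP_of {p : ℕ} (hp : p.Prime) : isP p = true := by
  simp only [isP, Bool.and_eq_true, decide_eq_true_eq, List.all_eq_true, List.mem_range, Bool.or_eq_true]
  refine ⟨hp.two_le, fun m hm => ?_⟩
  by_cases h : m < 2
  · exact Or.inl h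
  · right
    intro h0
    rcases (Nat.dvd_prime hp).1 (Nat.dvd_of_mod_eq_zero h0) with h1 | h1 <;> omega

theorem class6_dec : ((List.range 6).all fun f => (List.range 58).all fun p =>
    decide (f = 0) || !(isP p) || decide (p ^ f < 10) || decide (600 * f < (p ^ f - 2) * (p ^ f - 3)) ||
      decide ((p ^ f, Nat.gcd 2 (p ^ f - 1), f) ∈ lst)) = true := by
  decide +kernel

theorem two_pow_ge {f : ℕ} (hf : 6 ≤ f) : 10 * f + 4 ≤ 2 ^ f := by
  induction f, hf using Nat.le_induction with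
  | base => norm_num
  | succ f hf ih => rw [pow_succ]; omega

theorem class6 {p f q : ℕ} (hp : p.Prime) (hf : 1 ≤ f) (hq : q = p ^ f) (h10 : 10 ≤ q)
    (h : (q - 2) * (q - 3) ≤ 600 * f) : (q, Nat.gcd 2 (q - 1), f) ∈ lst := by
  have h2f : 2 ^ f ≤ q := by rw [hq]; exact Nat.pow_le_pow_left hp.two_le f
  have hf6 : f < 6 := by
    by_contra hcon
    have h1 := two_pow_ge (f := f) (by omega)
    have h2 : 64 ≤ q := by
      have : (2 : ℕ) ^ 6 ≤ 2 ^ f := Nat.pow_le_pow_right (by norm_num) (by omega)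
      norm_num at this
      omega
    have h3 : 62 * (10 * f + 1) ≤ (q - 2) * (q - 3) := Nat.mul_le_mul (by omega) (by omega)
    omega
  have hq58 : q < 58 := by
    by_contra hcon
    have h3 : 56 * 55 ≤ (q - 2) * (q - 3) := Nat.mul_le_mul (by omega) (by omega)
    omega
  have hpq : p ≤ q := by rw [hq]; exact Nat.le_self_pow (by omega) p
  subst hq
  have h1 := class6_dec
  rw [List.all_eq_true] at h1
  have h1 := h1 f (List.mem_range.2 hf6)
  rw [List.all_eq_true] at h1
  have h1 := h1 p (List.mem_range.2 (by omega))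
  simp only [Bool.or_eq_true, decide_eq_true_eq, isP_of hp, Bool.not_true, Bool.false_eq_true, or_false] at h1
  rcases h1 with ((h1 | h1) | h1) | h1
  · omega
  · omega
  · omega
  · exact h1

theorem class5_dec : ((List.range 8).all fun f => (List.range 212).all fun p =>
    decide (f = 0) || !(isP p) || decide (p ^ f < 8) || decide (30 * f + 2 ≤ p ^ f) ||
      decide (p ^ f * ((p ^ f) ^ 2 - 1) % 5 = 0) ||
      decide ((p ^ f, f) ∈ [(8, 3), (13, 1), (17, 1), (23, 1), (27, 3), (32, 5), (128, 7)])) = true := by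
  decide +kernel

theorem two_pow_ge5 {f : ℕ} (hf : 8 ≤ f) : 30 * f + 2 ≤ 2 ^ f := by
  induction f, hf using Nat.le_induction with
  | base => norm_num
  | succ f hf ih => rw [pow_succ]; omega

theorem class5 {p f q : ℕ} (hp : p.Prime) (hf : 1 ≤ f) (hq : q = p ^ f) (h8 : 8 ≤ q)
    (h : q < 30 * f + 2) (h5 : ¬ 5 ∣ q * (q ^ 2 - 1)) :
    (q, f) ∈ [(8, 3), (13, 1), (17, 1), (23, 1), (27, 3), (32, 5), (128, 7)] := by
  have h2f : 2 ^ f ≤ q := by rw [hq]; exact Nat.pow_le_pow_left hp.two_le f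
  have hf8 : f < 8 := by
    by_contra hcon
    have h1 := two_pow_ge5 (f := f) (by omega)
    omega
  have hpq : p ≤ q := by rw [hq]; exact Nat.le_self_pow (by omega) p
  subst hq
  have h1 := class5_dec
  rw [List.all_eq_true] at h1
  have h1 := h1 f (List.mem_range.2 hf8)
  rw [List.all_eq_true] at h1
  have h1 := h1 p (List.mem_range.2 (by omega))
  simp only [Bool.or_eq_true, decide_eq_true_eq, isP_of hp, Bool.not_true, Bool.false_eq_true, or_false] at h1
  rcases h1 with (((h1 | h1) | h1) | h1) | h1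
  · omega
  · omega
  · omega
  · exact absurd (Nat.dvd_of_mod_eq_zero h1) h5
  · exact h1

/-- the case `k = 5`, `q = 23`: Sylow -/
theorem num23 : ∀ d < 3, d ≠ 0 → syl 24 5 (d * 6072) = true := by decide +kernel

end Cfsg.Agent.H391.KPslNum
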