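import Cfsg.Agent.H391.KPslNum
import Cfsg.Agent.H391.KPslC2
import Cfsg.Agent.H391.KPslC3
import Cfsg.Agent.H391.KPslE2

/-!
# Row `PSL_2(q)`, `n = q + 1`, of S3564 (helper391)
-/

set_option autoImplicit false
set_option linter.unusedSectionVars false

namespace Cfsg.Agent.H391.KPslTwo

open MulAction Cfsg.Agent.H397.KHom Cfsg.Agent.H384.TwoTrans Cfsg.Agent.H391.KOrb Cfsg.Agent.H391.KPslA
open Cfsg.Agent.H391.KPslB Cfsg.Agent.H391.KPslC Cfsg.Agent.H391.KPslD Cfsg.Agent.H391.KPslNum

open scoped Pointwise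

universe u v

theorem c14 : Nat.choose (13 + 1) 4 = 1001 := by rw [← ch_eq]; decide +kernel
theorem c18 : Nat.choose (17 + 1) 4 = 3060 := by rw [← ch_eq]; decide +kernel
theorem c28 : Nat.choose (27 + 1) (5 - 1) = 20475 := by rw [← ch_eq]; decide +kernel
theorem c33 : Nat.choose (32 + 1) 4 = 40920 := by rw [← ch_eq]; decide +kernel
theorem c129 : Nat.choose (128 + 1) 4 = 11009376 := by rw [← ch_eq]; decide +kernel
theorem c17 : Nat.choose (16 + 1) 6 = 12376 := by rw [← ch_eq]; decide +kernel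

variable {G : Type u} {Ω : Type v} [Group G] [MulAction G Ω] {T : Subgroup G} [DecidableEq Ω] [Fintype Ω]

theorem four_dvd {p f q t : ℕ} (hp : p.Prime) (hq : q = p ^ f) (h4 : 4 ≤ q)
    (ht : t * Nat.gcd 2 (q - 1) = q * (q ^ 2 - 1)) : 4 ∣ t := by
  rcases Nat.even_or_odd q with he | ho
  · have h1 : Nat.gcd 2 (q - 1) = 1 := by
      rw [Nat.coprime_iff_gcd_eq_one.symm, Nat.coprime_two_left]
      exact Nat.Even.sub_odd (by omega) he odd_one
    rw [h1, mul_one] at ht
    rw [ht]
    apply Dvd.dvd.mul_right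
    have h2 : p = 2 := by
      rw [hq] at he
      have h3 : Even p := (Nat.even_pow.1 he).1
      exact (Nat.Prime.even_iff hp).1 h3
    rw [h2] at hq
    have hf : 2 ≤ f := by
      by_contra hcon
      have : f ≤ 1 := by omega
      interval_cases f <;> omega
    rw [hq]
    exact pow_dvd_pow 2 hf
  · have h1 : Nat.gcd 2 (q - 1) = 2 := by
      obtain ⟨m, hm⟩ := ho
      have h2 : q - 1 = 2 * m := by omega
      rw [h2]
      exact Nat.gcd_eq_left (Dvd.intro m rfl)
    rw [h1] at ht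
    obtain ⟨m, hm⟩ := ho
    have h2 : q ^ 2 - 1 = 4 * (m * (m + 1)) := by
      rw [hm]
      have : (2 * m + 1) ^ 2 = 4 * (m * (m + 1)) + 1 := by ring
      omega
    obtain ⟨c, hc⟩ := (Nat.even_mul_succ_self m).two_dvd
    rw [h2, hc] at ht
    exact ⟨q * c, by nlinarith⟩

theorem gcd_le {q : ℕ} : Nat.gcd 2 (q - 1) ≤ 2 := Nat.gcd_le_left _ (by norm_num)

/-- **Row `PSL_2(q)`.** -/
theorem psl2 (A : AS G Ω T) {F : Type*} [Field F] [Fintype F]
    (e : Nonempty (↥T ≃* Matrix.ProjectiveSpecialLinearGroup (Fin 2) F)) (hn : Nat.card Ω = Fintype.card F + 1)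
    {k : ℕ} (hk : 4 ≤ k) (h2k : 2 * k ≤ Nat.card Ω + 1) (h : Hom G Ω k) : Homog G Ω (k - 1) := by
  classical
  have := A.finG
  have := A.faithful
  have hfix := fix_le_two A e hn
  obtain ⟨p, hpc⟩ := CharP.exists F
  obtain ⟨f', hp, hF⟩ := FiniteField.card F p
  obtain ⟨f, hf', hf⟩ : ∃ f : ℕ, f = (f' : ℕ) ∧ 1 ≤ f := ⟨f', rfl, f'.pos⟩
  rw [← hf'] at hF
  have hn' : Fintype.card Ω = Fintype.card F + 1 := by rw [← Nat.card_eq_fintype_card, hn]
  have hcT := card_T e
  obtain ⟨d, hd, hG⟩ := card_G A e (by omega) hp hf hF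
  have h4T : 4 ∣ Nat.card ↥T := four_dvd hp hF (by omega) hcT
  obtain ⟨q, hq⟩ : ∃ q, Fintype.card F = q := ⟨_, rfl⟩
  obtain ⟨t, ht⟩ : ∃ t, Nat.card ↥T = t := ⟨_, rfl⟩
  obtain ⟨g, hg⟩ : ∃ g, Nat.gcd 2 (q - 1) = g := ⟨_, rfl⟩
  have hgpos : 0 < g := by rw [← hg]; exact Nat.gcd_pos_of_pos_left _ (by norm_num)
  have htpos : 0 < t := by rw [← ht]; exact Nat.card_pos
  have hdpos : 0 < d := Nat.pos_of_dvd_of_pos hd (by rw [hq, hg]; positivity)
  have hgf : d ≤ g * f := by
    have := Nat.le_of_dvd (by rw [hq, hg]; positivity) hd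
    rwa [hq, hg] at this
  -- subgroups of order 4
  obtain ⟨V, hVT, hV⟩ := exists_pow_subgroup (a := 2) Nat.prime_two (by simpa using h4T)
  norm_num at hV
  -- `|G| ≤ f q (q² - 1)`
  have hGle : Nat.card G ≤ f * (q * (q ^ 2 - 1)) := by
    rw [hG, ht]
    calc d * t ≤ g * f * t := Nat.mul_le_mul_right _ hgf
      _ = f * (t * g) := by ring
      _ = _ := by rw [← ht, ← hg, ← hq, hcT]
  have hq2 : q ^ 2 - 1 = (q + 1) * (q - 1) := by
    obtain ⟨m, rfl⟩ : ∃ m, q = m + 1 := ⟨q - 1, by omega⟩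
    have : (m + 1) ^ 2 = (m + 1 + 1) * m + 1 := by ring
    rw [this, Nat.add_sub_cancel, Nat.add_sub_cancel]
  rcases (show k = 4 ∨ k = 5 ∨ 6 ≤ k by omega) with rfl | rfl | h6
  · exact homog_of_subgroup hfix h (by omega) h2k hVT hV
  · -- `k = 5`
    by_cases h5 : 5 ∣ Nat.card G
    · exact homog_of_prime_dvd Nat.prime_five h h5
    have h5' : ¬ 5 ∣ q * (q ^ 2 - 1) := by
      intro h0
      apply h5
      rw [hG]
      apply Dvd.dvd.mul_left
      rw [← hq, ← hcT] at h0
      refine (Nat.Coprime.dvd_of_dvd_mul_right ?_ h0)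
      rw [hq, hg]
      have h1 : g ≤ 2 := by rw [← hg]; exact gcd_le
      interval_cases g <;> norm_num
    obtain ⟨x, hx⟩ := exists_regular hfix hVT (by rw [hV, hn]; omega)
    rw [hV] at hx
    obtain ⟨O, hO⟩ : ∃ O : Finset Ω, O = (Set.toFinite (orbit V x)).toFinset := ⟨_, rfl⟩
    have hOc : O.card = 4 := by rw [hO, ← Set.ncard_eq_toFinset_card _ (Set.toFinite (orbit V x)), hx]
    have hmem : ∀ y, y ∈ O ↔ y ∈ orbit V x := fun y => by rw [hO]; exact Set.Finite.mem_toFinset _
    have hVO : ∀ v ∈ V, v • O = O := by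
      intro v hv
      refine stab_mem fun y hy => ?_
      rw [hmem] at hy ⊢
      obtain ⟨w, rfl⟩ := hy
      exact ⟨⟨v, hv⟩ * w, mul_smul _ w x⟩
    have h1 := strict_five_mul h (by omega) V hOc hVO
    rw [hV] at h1
    have h2 := Cfsg.Agent.H391.KRankOne.mul_choose_four (Fintype.card Ω)
    have hq8 : 8 ≤ q := by omega
    have h30 : q < 30 * f + 2 := by
      by_contra hcon
      push Not at hcon
      obtain ⟨m, hm⟩ : ∃ m, q = m + 2 := ⟨q - 2, by omega⟩
      have e1 : Fintype.card Ω = m + 3 := by omega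
      rw [e1] at h1 h2
      have e2 : m + 3 - 1 = m + 2 := by omega
      have e3 : m + 3 - 2 = m + 1 := by omega
      have e4 : m + 3 - 3 = m := by omega
      rw [e2, e3, e4] at h2
      rw [hq2, hm] at hGle
      have e5 : m + 2 - 1 = m + 1 := by omega
      rw [e5] at hGle
      have h3 : 30 * f ≤ m := by omega
      have h4 : (m + 3) * (m + 2) * (m + 1) * (30 * f) ≤ (m + 3) * (m + 2) * (m + 1) * m :=
        Nat.mul_le_mul_left _ h3
      have h7 : 30 * Nat.card G ≤ (m + 3) * (m + 2) * (m + 1) * (30 * f) := by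
        calc 30 * Nat.card G ≤ 30 * (f * ((m + 2) * ((m + 2 + 1) * (m + 1)))) := Nat.mul_le_mul_left _ hGle
          _ = _ := by ring
      omega
    have hcl := class5 hp hf (by rw [← hq, hF]) hq8 h30 h5'
    have hc : Fintype.card Ω = q + 1 := by omega
    simp only [List.mem_cons, Prod.mk.injEq, List.not_mem_nil, or_false] at hcl
    rcases hcl with ⟨rfl, rfl⟩ | ⟨rfl, rfl⟩ | ⟨rfl, rfl⟩ | ⟨rfl, rfl⟩ | ⟨rfl, rfl⟩ | ⟨rfl, rfl⟩ | ⟨rfl, rfl⟩
    · -- 8
      have hg1 : g = 1 := by rw [← hg]; norm_num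
      refine homog_nine hfix hc ?_
      rw [hq, hg, hg1] at hcT
      omega
    · -- 13
      exfalso
      have hg1 : g = 2 := by rw [← hg]; norm_num
      have h8 := case_13 A hq e hn h
      rw [hc, c14] at h8
      rw [hq, hg, hg1, ht] at hcT
      subst hg1
      have h9 : d * t ≤ 2 * t := Nat.mul_le_mul_right _ (by omega)
      rw [hG, ht] at h8
      omega
    · -- 17
      exfalso
      have hg1 : g = 2 := by rw [← hg]; norm_num
      rw [hq, hg, hg1, ht] at hcT
      have ht' : t = 2448 := by omega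
      rw [ht, ht'] at hG
      have hcc : Nat.choose (17 + 1) 4 = 3060 := c18
      have hd2 : d ≤ 2 := by subst hg1; omega
      interval_cases d
      · obtain ⟨I, hI, H, hH, hHI⟩ := exists_stab (G := G) (Ω := Ω) (a := 2) (b := 2) (j := 4) Nat.prime_two
          (by rw [hG]; norm_num) (by rw [hc, hcc]; norm_num)
        have h8 := strict_five_mul h (by omega) H hI hHI
        rw [hc, hcc, hG] at h8
        omega
      · obtain ⟨I, hI, H, hH, hHI⟩ := exists_stab (G := G) (Ω := Ω) (a := 3) (b := 2) (j := 4) Nat.prime_two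
          (by rw [hG]; norm_num) (by rw [hc, hcc]; norm_num)
        have h8 := strict_five_mul h (by omega) H hI hHI
        rw [hc, hcc, hG] at h8
        omega
    · -- 23
      exfalso
      have hg1 : g = 2 := by rw [← hg]; norm_num
      rw [hq, hg, hg1, ht] at hcT
      have ht' : t = 6072 := by omega
      rw [ht, ht'] at hG
      have hd2 : d < 3 := by subst hg1; omega
      have h8 := num23 d hd2 hdpos.ne'
      rw [← hG, show (24 : ℕ) = 23 + 1 from rfl, ← hc] at h8
      exact syl_sound h (by omega) (by omega) h8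
    · -- 27
      exfalso
      have hg1 : g = 2 := by rw [← hg]; norm_num
      rw [hq, hg, hg1, ht] at hcT
      have hTt : IsPretransitive ↥T Ω := Cfsg.Agent.H436.TT.trans_T A
      obtain ⟨I, hI, hI'⟩ := orbit_three (G := G) A.normal hfix (by rw [hc]) (by omega) (by rw [ht]; omega)
      have h8 := h.choose_le_orbit (by omega) (by omega) (I := I) hI
      rw [hc, c28] at h8
      rw [hc] at hI'
      omega
    · -- 32
      exfalso
      have hg1 : g = 1 := by rw [← hg]; norm_num
      rw [hq, hg, hg1, ht] at hcT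
      have h8 := sharp_five hfix (by rw [ht, hc]; omega) (swap A e hn) h (by rw [hc]; norm_num) (by omega) h4T
      rw [hc, c33, hG, ht] at h8
      rw [hq, hg, hg1] at hd
      have hd1 : d = 1 ∨ d = 5 := (Nat.dvd_prime Nat.prime_five).1 (by simpa using hd)
      rcases hd1 with rfl | rfl
      · omega
      · apply h5
        rw [hG]
        exact Dvd.intro _ rfl
    · -- 128
      exfalso
      have hg1 : g = 1 := by rw [← hg]; norm_num
      rw [hq, hg, hg1, ht] at hcT
      have h8 := sharp_five hfix (by rw [ht, hc]; omega) (swap A e hn) h (by rw [hc]; norm_num) (by omega) h4T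
      rw [hc, c129, hG, ht] at h8
      have h9 : d * t ≤ 7 * t := Nat.mul_le_mul_right _ (by subst hg1; omega)
      omega
  · -- `k ≥ 6`
    by_contra hnot
    have h2k' : 2 * k ≤ Fintype.card Ω + 1 := by rw [← Nat.card_eq_fintype_card]; exact h2k
    have hb : (Fintype.card Ω).choose 5 ≤ 5 * Nat.card G := by
      rcases bound h h6 h2k' hnot with h1 | h1
      · omega
      · exact h1 5 (by omega)
    have hq10 : 10 ≤ q := by omega
    have hcl : (q - 2) * (q - 3) ≤ 600 * f := by
      have h2 := Cfsg.Agent.H391.KRankOne.mul_choose_five (Fintype.card Ω)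
      obtain ⟨m, hm⟩ : ∃ m, q = m + 3 := ⟨q - 3, by omega⟩
      have e1 : Fintype.card Ω = m + 4 := by omega
      rw [e1] at h2 hb
      have e2 : m + 4 - 1 = m + 3 := by omega
      have e3 : m + 4 - 2 = m + 2 := by omega
      have e4 : m + 4 - 3 = m + 1 := by omega
      have e5 : m + 4 - 4 = m := by omega
      rw [e2, e3, e4, e5] at h2
      rw [hq2, hm] at hGle
      have e6 : m + 3 - 1 = m + 2 := by omega
      have e7 : m + 3 - 2 = m + 1 := by omega
      have e8 : m + 3 - 3 = m := by omega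
      rw [e6] at hGle
      rw [hm, e7, e8]
      have h3 : (m + 4) * (m + 3) * (m + 2) * ((m + 1) * m) ≤ (m + 4) * (m + 3) * (m + 2) * (600 * f) := by
        calc (m + 4) * (m + 3) * (m + 2) * ((m + 1) * m) = 120 * (m + 4).choose 5 := by rw [← h2]; ring
          _ ≤ 120 * (5 * Nat.card G) := Nat.mul_le_mul_left _ hb
          _ ≤ 120 * (5 * (f * ((m + 3) * ((m + 3 + 1) * (m + 2))))) :=
            Nat.mul_le_mul_left _ (Nat.mul_le_mul_left _ hGle)
          _ = _ := by ring
      exact Nat.le_of_mul_le_mul_left h3 (by positivity)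
    have hmem := class6 hp hf (by rw [← hq, hF]) hq10 hcl
    have hc : Fintype.card Ω = q + 1 := by omega
    have hsmall : q < 33 ∧ g * f < 7 := by
      rw [← hg]
      simp only [lst, List.mem_cons, Prod.mk.injEq, List.not_mem_nil, or_false] at hmem
      rcases hmem with ⟨rfl, h1, rfl⟩ | ⟨rfl, h1, rfl⟩ | ⟨rfl, h1, rfl⟩ | ⟨rfl, h1, rfl⟩ | ⟨rfl, h1, rfl⟩ |
        ⟨rfl, h1, rfl⟩ | ⟨rfl, h1, rfl⟩ | ⟨rfl, h1, rfl⟩ | ⟨rfl, h1, rfl⟩ <;> rw [h1] <;> norm_num
    have hdd : (g * f) % d = 0 := by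
      rw [hq, hg] at hd
      exact Nat.mod_eq_zero_of_dvd hd
    have hNG : Nat.card G = d * (q * (q ^ 2 - 1) / g) := by
      rw [hG, ht]
      congr 1
      rw [hq, hg, ht] at hcT
      rw [← hcT, Nat.mul_div_cancel _ hgpos]
    rcases num6 hmem (k := k) (by omega) h6 (by simp only; omega) (d := d) (by omega) hdpos.ne'
      (by simp only; rw [hg]; exact hdd) with ⟨h1, h2⟩ | ⟨h1, h2⟩ | ⟨h1, h2⟩
    · simp only at h1
      subst h2
      exact hnot (case_11 A (by rw [hq, h1]) e hn h)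
    · simp only at h1
      subst h2
      have h3 := case_16 A (by rw [hq, h1]) e hn h
      have hg1 : g = 1 := by rw [← hg, h1]; norm_num
      have hf4 : f = 4 := by
        rw [h1] at hmem
        simp only [lst, List.mem_cons, Prod.mk.injEq, List.not_mem_nil, or_false] at hmem
        omega
      rw [hc, h1, c17, hG, ht] at h3
      rw [hq, hg, hg1, ht, h1] at hcT
      have h9 : d * t ≤ 4 * t := Nat.mul_le_mul_right _ (by rw [hg1, hf4] at hgf; omega)
      omega
    · simp only at h1 h2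
      rw [hg, ← hNG, ← hc] at h1 h2
      exact hnot (chk6_sound h h6 h2k' h1 h2)

end Cfsg.Agent.H391.KPslTwo
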