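import Mathlib

/-!
# Flats of a finite projective space and permutations normalising `SL` (helper391)

* `exists_submodule` : a set of points closed under joining lines is the set of points of a subspace;
* `card_on` : number of points of a subspace;
* `exists_sl` : `SL` is transitive on independent tuples of points;
* `Nrm` : permutations of the points normalising the action of `SL`; for dimension at least 3 they map the points of
  a subspace to the points of a subspace of the same dimension (`Nrm.exists_map`).
-/

set_option autoImplicit false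

namespace Cfsg.Agent.H391.ProjFlat

open scoped LinearAlgebra.Projectivization
open Module

variable {F V : Type*} [Field F] [AddCommGroup V] [Module F V]

theorem mk_le_iff {v : V} (hv : v ≠ 0) (W : Submodule F V) : (Projectivization.mk F v hv).submodule ≤ W ↔ v ∈ W := by
  rw [Projectivization.submodule_mk, Submodule.span_singleton_le_iff_mem]

theorem rep_mem_iff (p : ℙ F V) (W : Submodule F V) : p.rep ∈ W ↔ p.submodule ≤ W := by
  rw [Projectivization.submodule_eq, Submodule.span_singleton_le_iff_mem]

/-- A set of points closed under lines is the set of points of a subspace. -/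
theorem exists_submodule (S : Set (ℙ F V))
    (hS : ∀ p ∈ S, ∀ q ∈ S, p ≠ q → ∀ r : ℙ F V, r.submodule ≤ p.submodule ⊔ q.submodule → r ∈ S) :
    ∃ W : Submodule F V, ∀ p : ℙ F V, p.submodule ≤ W ↔ p ∈ S := by
  classical
  let W : Submodule F V :=
    { carrier := {v | ∀ h : v ≠ 0, Projectivization.mk F v h ∈ S}
      zero_mem' := fun h => absurd rfl h
      add_mem' := by
        intro v w hv hw h
        by_cases hv0 : v = 0
        · subst hv0
          have h' : w ≠ 0 := by rwa [zero_add] at h
          have := hw h'
          simpa only [zero_add] using this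
        by_cases hw0 : w = 0
        · subst hw0
          have := hv hv0
          simpa only [add_zero] using this
        have h1 := hv hv0
        have h2 := hw hw0
        by_cases hne : Projectivization.mk F v hv0 = Projectivization.mk F w hw0
        · rw [Projectivization.mk_eq_mk_iff'] at hne
          obtain ⟨a, ha⟩ := hne
          have h3 : Projectivization.mk F (v + w) h = Projectivization.mk F w hw0 := by
            rw [Projectivization.mk_eq_mk_iff']
            exact ⟨a + 1, by rw [add_smul, ha, one_smul]⟩
          rw [h3]; exact h2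
        · refine hS _ h1 _ h2 hne _ ?_
          rw [mk_le_iff, Projectivization.submodule_mk, Projectivization.submodule_mk]
          exact Submodule.add_mem_sup (Submodule.mem_span_singleton_self v) (Submodule.mem_span_singleton_self w)
      smul_mem' := by
        intro c v hv h
        have hv0 : v ≠ 0 := fun h0 => h (by rw [h0, smul_zero])
        have h3 : Projectivization.mk F (c • v) h = Projectivization.mk F v hv0 := by
          rw [Projectivization.mk_eq_mk_iff']
          exact ⟨c, rfl⟩
        rw [h3]; exact hv hv0 }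
  refine ⟨W, fun p => ?_⟩
  induction p using Projectivization.ind with | _ v hv =>
  rw [mk_le_iff]
  exact ⟨fun h => h hv, fun h _ => h⟩

/-- the points of a subspace -/
def pts (W : Submodule F V) : Set (ℙ F V) := {p | p.submodule ≤ W}

theorem mem_pts {W : Submodule F V} {p : ℙ F V} : p ∈ pts W ↔ p.submodule ≤ W := Iff.rfl

/-- points of the subspace = projectivization of the subspace -/
noncomputable def ptsEquiv (W : Submodule F V) : ℙ F W ≃ pts W := by
  refine Equiv.ofBijective (fun p => ⟨p.map W.subtype W.injective_subtype, ?_⟩) ⟨?_, ?_⟩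
  · induction p using Projectivization.ind with | _ v hv =>
    rw [mem_pts, Projectivization.map_mk, mk_le_iff]
    exact v.2
  · intro p q h
    exact Projectivization.map_injective W.subtype W.injective_subtype (congrArg Subtype.val h)
  · rintro ⟨p, hp⟩
    induction p using Projectivization.ind with | _ v hv =>
    rw [mem_pts, mk_le_iff] at hp
    refine ⟨Projectivization.mk F ⟨v, hp⟩ (fun h => hv (congrArg Subtype.val h)), ?_⟩
    exact Subtype.ext rfl

theorem card_pts [Finite F] [Module.Finite F V] (W : Submodule F V) :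
    Nat.card (pts W) * (Nat.card F - 1) = Nat.card F ^ finrank F W - 1 := by
  have h1 := Projectivization.card F W
  rw [← Nat.card_congr (ptsEquiv W), ← h1]
  congr 1
  exact Module.natCard_eq_pow_finrank

theorem finrank_eq_of_card [Finite F] [Module.Finite F V] {W W' : Submodule F V}
    (h : Nat.card (pts W) = Nat.card (pts W')) : finrank F W = finrank F W' := by
  have h1 := card_pts W
  have h2 := card_pts W'
  have hq : 1 < Nat.card F := Finite.one_lt_card
  rw [h, h2] at h1
  have h3 : 0 < Nat.card F ^ finrank F W := pow_pos (by omega) _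
  have h4 : 0 < Nat.card F ^ finrank F W' := pow_pos (by omega) _
  exact Nat.pow_right_injective hq (show Nat.card F ^ finrank F W = Nat.card F ^ finrank F W' by omega)

/-- `SL` is transitive on independent tuples (projectively). -/
theorem exists_sl [Module.Finite F V] {κ : Type*} [Finite κ] {v w : κ → V} (hv : LinearIndependent F v)
    (hw : LinearIndependent F w) (i₀ : κ) :
    ∃ g : V ≃ₗ[F] V, LinearEquiv.det g = 1 ∧ ∀ i, ∃ c : F, c ≠ 0 ∧ g (v i) = c • w i := by
  classical
  have hfin : FiniteDimensional F (Submodule.span F (Set.range v)) :=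
    FiniteDimensional.span_of_finite F (Set.finite_range _)
  let f : Submodule.span F (Set.range v) ≃ₗ[F] Submodule.span F (Set.range w) :=
    hv.linearCombinationEquiv.symm ≪≫ₗ hw.linearCombinationEquiv
  obtain ⟨g, hg⟩ := Submodule.exists_linearEquiv_restrict_eq f
  have hgv : ∀ i, g (v i) = w i := by
    intro i
    have h1 : v i = ((hv.linearCombinationEquiv (Finsupp.single i 1) :
        Submodule.span F (Set.range v)) : V) := by simp
    have h2 : w i = ((hw.linearCombinationEquiv (Finsupp.single i 1) :
        Submodule.span F (Set.range w)) : V) := by simp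
    rw [h1, ← hg, h2]
    simp [f]
  -- a functional with φ (w i₀) = 1 and φ (w i) = 0 for i ≠ i₀
  have hnot : w i₀ ∉ Submodule.span F (w '' (Set.univ \ {i₀})) := by
    have := hw.notMem_span_image (s := Set.univ \ {i₀}) (x := i₀) (by simp)
    exact this
  obtain ⟨φ, hφ1, hφ2⟩ := Submodule.exists_le_ker_of_notMem hnot
  let a : F := ((LinearEquiv.det g)⁻¹ : Fˣ)
  let ψ : Dual F V := (a - 1) • (φ (w i₀))⁻¹ • φ
  have hψ0 : ψ (w i₀) = a - 1 := by
    simp only [ψ, LinearMap.smul_apply, smul_eq_mul]
    rw [inv_mul_cancel₀ hφ1, mul_one]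
  have hψ : ∀ i, i ≠ i₀ → ψ (w i) = 0 := by
    intro i hi
    have : w i ∈ LinearMap.ker φ := hφ2 (Submodule.subset_span ⟨i, ⟨trivial, hi⟩, rfl⟩)
    rw [LinearMap.mem_ker] at this
    simp only [ψ, LinearMap.smul_apply, this, smul_zero]
  have ha : a ≠ 0 := Units.ne_zero _
  have hunit : IsUnit (1 + ψ (w i₀)) := by
    rw [hψ0]
    exact isUnit_iff_ne_zero.2 (by rwa [add_sub_cancel])
  let h : V ≃ₗ[F] V := LinearEquiv.dilatransvection hunit
  have hdet : LinearEquiv.det h = (LinearEquiv.det g)⁻¹ := by
    rw [← Units.val_inj, LinearEquiv.coe_det]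
    have : (h : V →ₗ[F] V) = LinearMap.transvection ψ (w i₀) := LinearEquiv.dilatransvection.coe_toLinearMap
    rw [this, LinearMap.transvection.det, hψ0, add_sub_cancel]
  have happ : ∀ x, h x = x + ψ x • w i₀ := fun x => LinearEquiv.dilatransvection.apply
  refine ⟨g.trans h, ?_, fun i => ?_⟩
  · rw [show g.trans h = h * g from rfl, map_mul, hdet, inv_mul_cancel]
  · by_cases hi : i = i₀
    · subst hi
      refine ⟨a, ha, ?_⟩
      rw [LinearEquiv.trans_apply, hgv, happ, hψ0, sub_smul, one_smul]
      abel
    · refine ⟨1, one_ne_zero, ?_⟩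
      rw [LinearEquiv.trans_apply, hgv, happ, hψ i hi, zero_smul, add_zero, one_smul]

theorem smul_mem_pts {g : V ≃ₗ[F] V} {p q r : ℙ F V} (hp : g • p = p) (hq : g • q = q)
    (hr : r ∈ pts (p.submodule ⊔ q.submodule)) : g • r ∈ pts (p.submodule ⊔ q.submodule) := by
  have key : ∀ s : ℙ F V, (g • s).submodule = s.submodule.map (g : V →ₗ[F] V) := by
    intro s
    induction s using Projectivization.ind with | _ v hv =>
    rw [Projectivization.smul_mk, Projectivization.submodule_mk, Projectivization.submodule_mk,
      Submodule.map_span, Set.image_singleton]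
    rfl
  rw [mem_pts] at hr ⊢
  rw [key]
  refine (Submodule.map_mono hr).trans ?_
  rw [Submodule.map_sup, ← key p, ← key q, hp, hq]

theorem finrank_line [Module.Finite F V] {p q : ℙ F V} (h : p ≠ q) :
    finrank F ↥(p.submodule ⊔ q.submodule) = 2 := by
  have h1 := Submodule.finrank_sup_add_finrank_inf_eq p.submodule q.submodule
  rw [Projectivization.finrank_submodule, Projectivization.finrank_submodule] at h1
  have h2 : finrank F ↥(p.submodule ⊓ q.submodule) = 0 := by
    by_contra h0
    have h6 : finrank F ↥(p.submodule ⊓ q.submodule) ≤ finrank F p.submodule :=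
      Submodule.finrank_mono inf_le_left
    rw [Projectivization.finrank_submodule] at h6
    have h3 : finrank F ↥(p.submodule ⊓ q.submodule) = 1 := by omega
    have h4 : p.submodule ⊓ q.submodule = p.submodule :=
      Submodule.eq_of_le_of_finrank_le inf_le_left (by rw [h3, Projectivization.finrank_submodule])
    have h5 : p.submodule ⊓ q.submodule = q.submodule :=
      Submodule.eq_of_le_of_finrank_le inf_le_right (by rw [h3, Projectivization.finrank_submodule])
    exact h (Projectivization.submodule_injective (h4.symm.trans h5))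
  omega

/-- there are more points off a line than on it -/
theorem card_line_lt [Finite F] [Module.Finite F V] (h3 : 3 ≤ finrank F V) {L : Submodule F V}
    (hL : finrank F L = 2) : Nat.card (pts L) < Nat.card ↥(pts L)ᶜ := by
  have hfV : Finite V := Module.finite_of_finite F
  have hq : 1 < Nat.card F := Finite.one_lt_card
  obtain ⟨w, hw⟩ : ∃ w, w ∉ L := by
    by_contra hcon
    push Not at hcon
    have : L = ⊤ := eq_top_iff.2 fun x _ => hcon x
    rw [this, finrank_top] at hL
    omega
  have hne : ∀ v : L, (v : V) + w ≠ 0 := by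
    intro v h0
    apply hw
    rw [show w = ((v : V) + w) - v by abel, h0, zero_sub]
    exact L.neg_mem v.2
  let f : L → ↥(pts L)ᶜ := fun v => ⟨Projectivization.mk F ((v : V) + w) (hne v), by
    rw [Set.mem_compl_iff, mem_pts, mk_le_iff]
    intro h
    apply hw
    have := L.sub_mem h v.2
    rwa [add_sub_cancel_left] at this⟩
  have hf : Function.Injective f := by
    intro v v' h
    have h1 := congrArg Subtype.val h
    change Projectivization.mk F ((v : V) + w) _ = Projectivization.mk F ((v' : V) + w) _ at h1
    rw [Projectivization.mk_eq_mk_iff'] at h1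
    obtain ⟨a, ha⟩ := h1
    have h2 : (a - 1) • w ∈ L := by
      have : (a - 1) • w = (v : V) - a • (v' : V) := by
        rw [smul_add] at ha
        rw [sub_smul, one_smul]
        rw [sub_eq_sub_iff_add_eq_add, ← ha]
        abel
      rw [this]
      exact L.sub_mem v.2 (L.smul_mem _ v'.2)
    have h4 : a = 1 := by
      by_contra hne'
      exact hw ((L.smul_mem_iff (sub_ne_zero.2 hne')).1 h2)
    rw [h4, one_smul] at ha
    exact Subtype.ext (add_right_cancel ha).symm
  have h1 : Nat.card L ≤ Nat.card ↥(pts L)ᶜ := Nat.card_le_card_of_injective f hf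
  have h2 := card_pts L
  have h4 : Nat.card L = Nat.card F ^ finrank F L := Module.natCard_eq_pow_finrank
  rw [← h4] at h2
  have hq1 : 0 < Nat.card F - 1 := by omega
  have h5 : Nat.card (pts L) ≤ Nat.card (pts L) * (Nat.card F - 1) := Nat.le_mul_of_pos_right _ hq1
  have h6 : 0 < Nat.card L := Nat.card_pos
  omega

theorem exists_fix [Module.Finite F V] {p q r r' : ℙ F V} (hpq : p ≠ q)
    (hr : r ∉ pts (p.submodule ⊔ q.submodule)) (hr' : r' ∉ pts (p.submodule ⊔ q.submodule)) :
    ∃ g : V ≃ₗ[F] V, LinearEquiv.det g = 1 ∧ g • p = p ∧ g • q = q ∧ g • r = r' := by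
  have hind : ∀ s : ℙ F V, s ∉ pts (p.submodule ⊔ q.submodule) →
      LinearIndependent F ![s.rep, p.rep, q.rep] := by
    intro s hs
    rw [show ![s.rep, p.rep, q.rep] = Fin.cons s.rep ![p.rep, q.rep] from rfl, linearIndependent_finCons]
    refine ⟨Projectivization.linearIndependent_pair_iff_ne.2 hpq, ?_⟩
    intro h
    apply hs
    rw [mem_pts, ← rep_mem_iff, Projectivization.submodule_eq, Projectivization.submodule_eq]
    have : Submodule.span F (Set.range ![p.rep, q.rep]) = Submodule.span F {p.rep} ⊔ Submodule.span F {q.rep} := by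
      rw [← Submodule.span_union]
      congr 1
      ext x
      simp
    rwa [this] at h
  obtain ⟨g, hg, h⟩ := exists_sl (hind r hr) (hind r' hr') 0
  have key : ∀ s t : ℙ F V, (∃ c : F, c ≠ 0 ∧ g s.rep = c • t.rep) → g • s = t := by
    rintro s t ⟨c, hc, hst⟩
    conv_lhs => rw [← Projectivization.mk_rep s]
    conv_rhs => rw [← Projectivization.mk_rep t]
    rw [Projectivization.smul_mk, Projectivization.mk_eq_mk_iff']
    exact ⟨c, hst.symm⟩
  exact ⟨g, hg, key _ _ (h 1), key _ _ (h 2), key _ _ (h 0)⟩

/-- `γ` normalises the action of `SL`. -/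
def Nrm (γ : Equiv.Perm (ℙ F V)) : Prop :=
  ∀ g : V ≃ₗ[F] V, LinearEquiv.det g = 1 → ∃ g' : V ≃ₗ[F] V, LinearEquiv.det g' = 1 ∧ ∀ x, γ (g • x) = g' • γ x

theorem Nrm.off [Finite F] [Module.Finite F V] (h3 : 3 ≤ finrank F V) {γ : Equiv.Perm (ℙ F V)} (hγ : Nrm γ)
    {p q r : ℙ F V} (hpq : p ≠ q) (hr : r ∉ pts (p.submodule ⊔ q.submodule)) :
    γ r ∉ pts ((γ p).submodule ⊔ (γ q).submodule) := by
  intro hcon
  have hfV : Finite V := Module.finite_of_finite F
  have hfP : Finite (ℙ F V) := inferInstance
  have hpq' : γ p ≠ γ q := fun h => hpq (γ.injective h)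
  have hall : ∀ r' ∉ pts (p.submodule ⊔ q.submodule), γ r' ∈ pts ((γ p).submodule ⊔ (γ q).submodule) := by
    intro r' hr'
    obtain ⟨g, hg, hgp, hgq, hgr⟩ := exists_fix hpq hr hr'
    obtain ⟨g', -, hg'⟩ := hγ g hg
    rw [← hgr, hg']
    apply smul_mem_pts _ _ hcon
    · rw [← hg', hgp]
    · rw [← hg', hgq]
  have h1 : Nat.card ↥(pts (p.submodule ⊔ q.submodule))ᶜ ≤
      Nat.card (pts ((γ p).submodule ⊔ (γ q).submodule)) := by
    refine Nat.card_le_card_of_injective (fun r' => ⟨γ r'.1, hall r'.1 r'.2⟩) ?_
    intro x y hxy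
    exact Subtype.ext (γ.injective (congrArg Subtype.val hxy))
  have h2 := card_line_lt h3 (finrank_line hpq')
  have h4 : Nat.card (pts ((γ p).submodule ⊔ (γ q).submodule)) = Nat.card (pts (p.submodule ⊔ q.submodule)) := by
    have h5 := card_pts ((γ p).submodule ⊔ (γ q).submodule)
    have h6 := card_pts (p.submodule ⊔ q.submodule)
    rw [finrank_line hpq', ← finrank_line hpq, ← h6] at h5
    have hq : 1 < Nat.card F := Finite.one_lt_card
    exact Nat.eq_of_mul_eq_mul_right (by omega) h5
  have h5 := card_line_lt h3 (finrank_line hpq)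
  omega

/-- A permutation of the points normalising `SL` maps subspaces to subspaces of the same dimension. -/
theorem Nrm.exists_map [Finite F] [Module.Finite F V] (h3 : 3 ≤ finrank F V) {γ : Equiv.Perm (ℙ F V)} (hγ : Nrm γ)
    (W : Submodule F V) :
    ∃ W' : Submodule F V, finrank F W' = finrank F W ∧ ∀ p, p ∈ pts W ↔ γ p ∈ pts W' := by
  have hfV : Finite V := Module.finite_of_finite F
  obtain ⟨W', hW'⟩ := exists_submodule {p | γ⁻¹ p ∈ pts W} (by
    intro p hp q hq hpq r hr
    rw [Set.mem_ofPred_eq] at hp hq ⊢
    have hpq' : γ⁻¹ p ≠ γ⁻¹ q := fun h => hpq (γ⁻¹.injective h)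
    by_contra hcon
    have h1 : γ⁻¹ r ∉ pts ((γ⁻¹ p).submodule ⊔ (γ⁻¹ q).submodule) := by
      intro h2
      exact hcon (le_trans (mem_pts.1 h2) (sup_le (mem_pts.1 hp) (mem_pts.1 hq)))
    have h2 := hγ.off h3 hpq' h1
    have hself : ∀ x, γ (γ⁻¹ x) = x := fun x => γ.apply_symm_apply x
    rw [hself, hself, hself] at h2
    exact h2 hr)
  have hiff : ∀ p, p ∈ pts W ↔ γ p ∈ pts W' := by
    intro p
    have hself : γ⁻¹ (γ p) = p := γ.symm_apply_apply p
    rw [mem_pts (W := W'), hW', Set.mem_ofPred_eq, hself]
  refine ⟨W', ?_, hiff⟩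
  apply finrank_eq_of_card
  refine (Nat.card_congr (Equiv.subtypeEquiv γ fun p => hiff p)).symm

end Cfsg.Agent.H391.ProjFlat
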