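import Cfsg.Agent.H386.PslPts
import Cfsg.Agent.H384.TwoTransRed

/-!
# Transitive actions of `PSL_d(q)` of degree `(q^d - 1)/(q - 1)` (helper391)

The set is, compatibly with an epimorphism from `SL_d(q)`, the set of points of the projective space.
-/

set_option autoImplicit false

namespace Cfsg.Agent.H391.PslIdent

open Matrix MulAction Cfsg.Agent.H118.SLTrans Cfsg.Agent.H386.PslPts
open scoped LinearAlgebra.Projectivization

/-- Transitive actions with the same point stabiliser. -/
theorem exists_equiv_of_stab {S X Ω P : Type*} [Group S] [Group X] [MulAction X Ω] [MulAction S P]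
    [IsPretransitive X Ω] [IsPretransitive S P] (φ : S →* X) (hφ : Function.Surjective φ) (a : Ω) (D : P)
    (h : ∀ s, φ s • a = a ↔ s • D = D) :
    ∃ f : Ω ≃ P, f a = D ∧ ∀ (s : S) (x : Ω), f (φ s • x) = s • f x := by
  classical
  have h1 : ∀ x : Ω, ∃ s : S, φ s • a = x := fun x => by
    obtain ⟨y, hy⟩ := exists_smul_eq X a x
    obtain ⟨s, rfl⟩ := hφ y
    exact ⟨s, hy⟩
  choose c hc using h1
  have key : ∀ s t : S, φ s • a = φ t • a ↔ s • D = t • D := by
    intro s t
    have := h (t⁻¹ * s)
    rw [map_mul, map_inv, mul_smul, mul_smul, inv_smul_eq_iff, inv_smul_eq_iff] at this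
    exact this
  have hcD : ∀ s : S, c (φ s • a) • D = s • D := fun s => (key _ _).1 (hc _)
  let f : Ω → P := fun x => c x • D
  have hf1 : ∀ (s : S) (x : Ω), f (φ s • x) = s • f x := by
    intro s x
    change c (φ s • x) • D = s • c x • D
    rw [← mul_smul, ← hcD (s * c x), map_mul, mul_smul, hc]
  have hfa : f a = D := by
    change c a • D = D
    have := hcD 1
    rwa [map_one, one_smul, one_smul] at this
  have hinj : Function.Injective f := by
    intro x y hxy
    have := (key (c x) (c y)).2 hxy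
    rwa [hc, hc] at this
  have hsurj : Function.Surjective f := by
    intro p
    obtain ⟨s, rfl⟩ := exists_smul_eq S D p
    refine ⟨φ s • a, ?_⟩
    rw [hf1, hfa]
  exact ⟨Equiv.ofBijective f ⟨hinj, hsurj⟩, hfa, hf1⟩

variable {ι F : Type*} [Field F] [DecidableEq ι] [Fintype ι]

local notation "SL" => SpecialLinearGroup ι F

theorem eq_stab [Finite F] [Nonempty ι] (H : Subgroup SL) {w : ι → F} (hw : w ≠ 0)
    (hH : ∀ h ∈ H, ∃ c : F, h.1 *ᵥ w = c • w)
    (hidx : H.index * (Nat.card F - 1) = Nat.card F ^ Fintype.card ι - 1) :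
    H = stabilizer SL (Projectivization.mk F w hw) := by
  let D : ℙ F (ι → F) := Projectivization.mk F w hw
  have hsm : ∀ g : SL, g • w = g.1 *ᵥ w := fun g => rfl
  have h1 : H ≤ stabilizer SL D := by
    intro h hh
    obtain ⟨c, hc⟩ := hH h hh
    rw [mem_stabilizer_iff, Projectivization.smul_mk, Projectivization.mk_eq_mk_iff']
    exact ⟨c, by rw [hsm, hc]⟩
  have hq : 1 < Nat.card F := Finite.one_lt_card
  have h2 : (stabilizer SL D).index = H.index := by
    rw [index_stabilizer_of_transitive]
    have h3 := Projectivization.card F (ι → F)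
    rw [Nat.card_fun, Nat.card_eq_fintype_card (α := ι), ← hidx] at h3
    exact (Nat.eq_of_mul_eq_mul_right (by omega) h3).symm
  have hfin : Finite SL := inferInstance
  refine le_antisymm h1 ?_
  have h4 := Subgroup.relIndex_mul_index h1
  rw [h2] at h4
  have h5 : 0 < H.index := Nat.pos_of_ne_zero Subgroup.index_ne_zero_of_finite
  have h6 : H.relIndex (stabilizer SL D) = 1 := Nat.eq_of_mul_eq_mul_right h5 (by rw [h4, one_mul])
  exact Subgroup.relIndex_eq_one.1 h6

open Module in
/-- A subgroup of `SL_n(q)` of index `(q^n - 1)/(q - 1)` is the stabiliser of a point or (after inverse transposition)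
of a hyperplane. -/
theorem point_or_hyp [Fintype F] (hn : 2 ≤ Fintype.card ι) (H : Subgroup SL)
    (hidx : H.index * (Fintype.card F - 1) = Fintype.card F ^ Fintype.card ι - 1) :
    (∃ D : ℙ F (ι → F), H = stabilizer SL D) ∨
      ∃ D : ℙ F (ι → F), H.map (invT (ι := ι) (F := F)).toMonoidHom = stabilizer SL D := by
  have : Nontrivial ι := Fintype.one_lt_card_iff_nontrivial.1 (by omega)
  have hq : 1 < Fintype.card F := Fintype.one_lt_card
  have hfin : Finite SL := inferInstance
  obtain ⟨r, hchar⟩ := CharP.exists F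
  obtain ⟨a, hr, ha⟩ := FiniteField.card F r
  have hfr : Fact r.Prime := ⟨hr⟩
  have hpow : 0 < Fintype.card F ^ Fintype.card ι := pow_pos (by omega) _
  have hri : ¬ r ∣ H.index := by
    intro h
    have h1 : r ∣ Fintype.card F ^ Fintype.card ι - 1 := by
      rw [← hidx]; exact h.mul_right _
    have h2 : r ∣ Fintype.card F ^ Fintype.card ι := by
      rw [ha]
      exact dvd_pow (dvd_pow_self r a.pos.ne') (by omega)
    have h3 := (Nat.dvd_sub h2 h1)
    have h4 : Fintype.card F ^ Fintype.card ι - (Fintype.card F ^ Fintype.card ι - 1) = 1 := by omega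
    rw [h4] at h3
    exact hr.one_lt.ne' (Nat.dvd_one.1 h3)
  have hbot := Cen_ne_bot hr H hri
  have htop : Cen H ≠ ⊤ := by
    intro h
    have h1 := eq_top_of_Cen H h
    rw [h1, Subgroup.index_top, one_mul] at hidx
    have h2 : Fintype.card F ^ 2 ≤ Fintype.card F ^ Fintype.card ι := Nat.pow_le_pow_right (by omega) hn
    have h3 : Fintype.card F < Fintype.card F ^ 2 := by nlinarith
    omega
  have hst : ∀ h ∈ H, ∀ c ∈ Cen H, h.1 *ᵥ c ∈ Cen H := fun h hh c hc => smul_mem_Cen hh hc
  have h1 := pow_le_index (r := r) (Cen H) H hst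
  have hm1 : 1 ≤ finrank F (Cen H) := by
    rw [Nat.one_le_iff_ne_zero]
    intro h
    exact hbot (Submodule.finrank_eq_zero.1 h)
  have hmn : finrank F (Cen H) < Fintype.card ι := by
    have := Submodule.finrank_lt htop
    rwa [finrank_fintype_fun_eq_card] at this
  rw [Nat.card_eq_fintype_card] at h1
  have hidx' : H.index * (Nat.card F - 1) = Nat.card F ^ Fintype.card ι - 1 := by
    rw [Nat.card_eq_fintype_card]; exact hidx
  rcases arith hq hm1 hmn h1 hidx with h | h
  · -- a point
    left
    obtain ⟨w, hw0, hw⟩ := finrank_eq_one_iff'.1 h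
    have hw0' : (w : ι → F) ≠ 0 := fun h0 => hw0 (Subtype.ext h0)
    refine ⟨_, eq_stab H (w := w) hw0' (fun g hg => ?_) hidx'⟩
    obtain ⟨c, hc⟩ := hw ⟨_, hst g hg w w.2⟩
    exact ⟨c, (congrArg Subtype.val hc).symm⟩
  · -- a hyperplane
    right
    obtain ⟨f, hf0, hf⟩ := Submodule.exists_le_ker_of_lt_top (Cen H) (lt_top_iff_ne_top.2 htop)
    obtain ⟨v₀, hv₀⟩ : ∃ v, f v ≠ 0 := by
      by_contra hcon
      push Not at hcon
      exact hf0 (LinearMap.ext hcon)
    have hker : LinearMap.ker f = Cen H := by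
      refine (Submodule.eq_of_le_of_finrank_le hf ?_).symm
      have h2 : LinearMap.ker f < ⊤ := by
        rw [lt_top_iff_ne_top]
        intro h3
        exact hf0 (LinearMap.ker_eq_top.1 h3)
      have h3 := Submodule.finrank_lt h2.ne
      rw [finrank_fintype_fun_eq_card] at h3
      omega
    let ψ : ι → F := fun i => f (Pi.single i 1)
    have hψ : ∀ v, ψ ⬝ᵥ v = f v := by
      intro v
      conv_rhs => rw [← Finset.univ_sum_single v, map_sum]
      refine Finset.sum_congr rfl fun i _ => ?_
      have : (Pi.single i (v i) : ι → F) = v i • (Pi.single i 1 : ι → F) := by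
        rw [← Pi.single_smul, smul_eq_mul, mul_one]
      rw [this, map_smul, smul_eq_mul, mul_comm]
    have hψ0 : ψ ≠ 0 := by
      intro h2
      apply hv₀
      rw [← hψ, h2, zero_dotProduct]
    refine ⟨_, eq_stab _ hψ0 ?_ ?_⟩
    · rintro _ ⟨g, hg, rfl⟩
      change ∃ c : F, (g⁻¹).1.transpose *ᵥ ψ = c • ψ
      refine ⟨(((g⁻¹).1.transpose *ᵥ ψ) ⬝ᵥ v₀) / f v₀, ?_⟩
      have key : ∀ c ∈ Cen H, ((g⁻¹).1.transpose *ᵥ ψ) ⬝ᵥ c = 0 := by
        intro c hc
        rw [mulVec_transpose, ← dotProduct_mulVec, hψ]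
        exact hf (hst _ (inv_mem hg) c hc)
      ext i
      have h2 : (Pi.single i 1 : ι → F) - (f (Pi.single i 1) / f v₀) • v₀ ∈ Cen H := by
        rw [← hker, LinearMap.mem_ker, map_sub, map_smul, smul_eq_mul, div_mul_cancel₀ _ hv₀, sub_self]
      have h3 := key _ h2
      rw [dotProduct_sub, dotProduct_smul, dotProduct_single, mul_one, sub_eq_zero] at h3
      rw [h3, Pi.smul_apply, smul_eq_mul, smul_eq_mul]
      change _ = _ * f (Pi.single i 1)
      ring
    · rw [← hidx', MulEquiv.toMonoidHom_eq_coe]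
      congr 1
      exact Subgroup.index_map_equiv H invT

/-- **Identification.** A transitive action of a quotient `X` of `SL_n(q)` of degree `(q^n - 1)/(q - 1)` is the action
on the points of the projective space, up to composing with an automorphism of `SL_n(q)`. -/
theorem exists_equiv_proj [Fintype F] (hn : 2 ≤ Fintype.card ι) {X Ω : Type*} [Group X] [MulAction X Ω]
    [Finite Ω] [IsPretransitive X Ω] (π : SL →* X) (hπ : Function.Surjective π)
    (hΩ : Nat.card Ω * (Fintype.card F - 1) = Fintype.card F ^ Fintype.card ι - 1) :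
    ∃ (φ : SL →* X) (f : Ω ≃ ℙ F (ι → F)), Function.Surjective φ ∧
      ∀ (s : SL) (x : Ω), f (φ s • x) = s • f x := by
  have : Nonempty ι := Fintype.card_pos_iff.1 (by omega)
  have hq : 1 < Fintype.card F := Fintype.one_lt_card
  have hne : Nonempty Ω := by
    by_contra h
    rw [not_nonempty_iff] at h
    rw [Nat.card_of_isEmpty, zero_mul] at hΩ
    have h1 := Nat.pow_le_pow_right (show 0 < Fintype.card F by omega) hn
    have h2 : 4 ≤ Fintype.card F ^ 2 := by nlinarith
    omega
  obtain ⟨a⟩ := hne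
  have hpr : IsPreprimitive SL (ℙ F (ι → F)) := inferInstance
  have htr : IsPretransitive SL (ℙ F (ι → F)) := inferInstance
  have hidx : ((stabilizer X a).comap π).index = Nat.card Ω := by
    rw [Subgroup.index_comap_of_surjective _ hπ, index_stabilizer_of_transitive]
  rcases point_or_hyp hn ((stabilizer X a).comap π) (by rw [hidx]; exact hΩ) with ⟨D, hD⟩ | ⟨D, hD⟩
  · obtain ⟨f, -, hf⟩ := exists_equiv_of_stab π hπ a D (fun s => by
      rw [← mem_stabilizer_iff, ← mem_stabilizer_iff, ← hD, Subgroup.mem_comap])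
    exact ⟨π, f, hπ, hf⟩
  · let i : SL ≃* SL := invT
    have hπ' : Function.Surjective (π.comp i.symm.toMonoidHom) := hπ.comp i.symm.surjective
    obtain ⟨f, -, hf⟩ := exists_equiv_of_stab (π.comp i.symm.toMonoidHom) hπ' a D (fun s => by
      rw [← mem_stabilizer_iff, ← mem_stabilizer_iff, ← hD]
      constructor
      · intro h
        exact ⟨i.symm s, h, i.apply_symm_apply s⟩
      · rintro ⟨t, ht, rfl⟩
        change π (i.symm (i t)) ∈ stabilizer X a
        rw [i.symm_apply_apply]
        exact ht)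
    exact ⟨_, f, hπ', hf⟩

end Cfsg.Agent.H391.PslIdent
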