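import Mathlib

/-!
# Schur rings of regular subgroups (Wielandt, Finite Permutation Groups, §§23–25)

`A` is a group of permutations of a finite group `H` containing the left translations
(`LeftReg A`); `Inv A S` says that the set `S` is a union of orbits of the stabiliser of `1`.

* `Inv.mul`-type facts: `conv_inv` (functions invariant under the stabiliser are closed under convolution),
  `closure_inv`, `stab_inv` (S-subgroups).
* `pow_orbit`: Schur's theorem, for commutative `H` and `m` prime to `|H|`: `x ~ y → x ^ m ~ y ^ m`.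
* `frob_inv`: the function `x ↦ #{t ∈ T | t ^ p = x} mod p` is invariant.
* `Prim A`: no proper nontrivial S-subgroup.  `prim_of_isPreprimitive`.
* `two_trans_of_not_pgroup`: a primitive S-ring over an abelian group, not a `p`-group, in which
  `z ^ p = 1` has exactly `p` solutions, is trivial.
-/

set_option autoImplicit false

namespace Cfsg.Agent.H391.SRing

open scoped Pointwise

variable {H : Type*} [Group H]

/-- `A` contains the left translations. -/
def LeftReg (A : Subgroup (Equiv.Perm H)) : Prop := ∀ h : H, Equiv.mulLeft h ∈ A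

/-- `S` is invariant under the stabiliser of `1`. -/
def Inv (A : Subgroup (Equiv.Perm H)) (S : Set H) : Prop :=
  ∀ σ ∈ A, σ 1 = 1 → ∀ x ∈ S, σ x ∈ S

/-- the function `f` is invariant under the stabiliser of `1`. -/
def InvFun (A : Subgroup (Equiv.Perm H)) {R : Type*} (f : H → R) : Prop :=
  ∀ σ ∈ A, σ 1 = 1 → ∀ x, f (σ x) = f x

/-- same orbit of the stabiliser of `1`. -/
def Rel (A : Subgroup (Equiv.Perm H)) (x y : H) : Prop := ∃ σ ∈ A, σ 1 = 1 ∧ σ x = y

/-- no proper nontrivial S-subgroup. -/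
def Prim (A : Subgroup (Equiv.Perm H)) : Prop :=
  ∀ K : Subgroup H, Inv A (K : Set H) → K = ⊥ ∨ K = ⊤

variable {A : Subgroup (Equiv.Perm H)}

theorem Rel.refl (x : H) : Rel A x x := ⟨1, A.one_mem, rfl, rfl⟩

theorem Rel.symm {x y : H} (h : Rel A x y) : Rel A y x := by
  obtain ⟨σ, hσ, h1, h2⟩ := h
  refine ⟨σ⁻¹, A.inv_mem hσ, ?_, ?_⟩
  · rw [Equiv.Perm.inv_eq_iff_eq]; exact h1.symm
  · rw [Equiv.Perm.inv_eq_iff_eq]; exact h2.symm

theorem Rel.trans {x y z : H} (h : Rel A x y) (h' : Rel A y z) : Rel A x z := by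
  obtain ⟨σ, hσ, h1, h2⟩ := h
  obtain ⟨τ, hτ, h3, h4⟩ := h'
  refine ⟨τ * σ, A.mul_mem hτ hσ, ?_, ?_⟩
  · rw [Equiv.Perm.mul_apply, h1, h3]
  · rw [Equiv.Perm.mul_apply, h2, h4]

theorem inv_setOf_rel (x : H) : Inv A {y | Rel A x y} := fun σ hσ h1 y hy =>
  Rel.trans hy ⟨σ, hσ, h1, rfl⟩

theorem Inv.rel {S : Set H} (hS : Inv A S) {x y : H} (hx : x ∈ S) (h : Rel A x y) : y ∈ S := by
  obtain ⟨σ, hσ, h1, rfl⟩ := h
  exact hS σ hσ h1 x hx

theorem Inv.mem_iff {S : Set H} (hS : Inv A S) {σ : Equiv.Perm H} (hσ : σ ∈ A) (h1 : σ 1 = 1) (x : H) :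
    σ x ∈ S ↔ x ∈ S :=
  ⟨fun h => hS.rel h (Rel.symm ⟨σ, hσ, h1, rfl⟩), fun h => hS σ hσ h1 x h⟩

theorem rel_one {x : H} (h : Rel A x 1) : x = 1 := by
  obtain ⟨σ, _, h1, h2⟩ := h
  rw [← h1] at h2
  exact σ.injective h2

/-- the conjugate element of the stabiliser of `1`. -/
theorem twist_mem (hA : LeftReg A) {σ : Equiv.Perm H} (hσ : σ ∈ A) (x : H) :
    ∃ τ ∈ A, τ 1 = 1 ∧ ∀ y, τ (x⁻¹ * y) = (σ x)⁻¹ * σ y := by
  refine ⟨Equiv.mulLeft (σ x)⁻¹ * σ * Equiv.mulLeft x, A.mul_mem (A.mul_mem (hA _) hσ) (hA _), ?_, ?_⟩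
  · simp [Equiv.Perm.mul_apply]
  · intro y; simp [Equiv.Perm.mul_apply]

theorem InvFun.twist (hA : LeftReg A) {R : Type*} {f : H → R} (hf : InvFun A f) {σ : Equiv.Perm H}
    (hσ : σ ∈ A) (x y : H) : f ((σ x)⁻¹ * σ y) = f (x⁻¹ * y) := by
  obtain ⟨τ, hτ, h1, h2⟩ := twist_mem hA hσ x
  rw [← h2 y]
  exact hf τ hτ h1 _

theorem Inv.twist (hA : LeftReg A) {S : Set H} (hS : Inv A S) {σ : Equiv.Perm H}
    (hσ : σ ∈ A) (x y : H) : (σ x)⁻¹ * σ y ∈ S ↔ x⁻¹ * y ∈ S := by
  obtain ⟨τ, hτ, h1, h2⟩ := twist_mem hA hσ x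
  rw [← h2 y]
  exact hS.mem_iff hτ h1 _

/-- invariant functions are closed under convolution. -/
theorem conv_inv [Fintype H] (hA : LeftReg A) {R : Type*} [Semiring R] {f g : H → R} (hf : InvFun A f)
    (hg : InvFun A g) : InvFun A (fun x => ∑ u : H, f u * g (u⁻¹ * x)) := by
  intro σ hσ h1 x
  change ∑ u : H, f u * g (u⁻¹ * σ x) = ∑ u : H, f u * g (u⁻¹ * x)
  rw [← Equiv.sum_comp σ (fun u => f u * g (u⁻¹ * σ x))]
  refine Finset.sum_congr rfl fun v _ => ?_
  rw [hf σ hσ h1 v, hg.twist hA hσ v x]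

/-- invariant functions are closed under inversion of the argument. -/
theorem inv_inv (hA : LeftReg A) {R : Type*} {f : H → R} (hf : InvFun A f) :
    InvFun A (fun x => f x⁻¹) := by
  intro σ hσ h1 x
  have h := hf.twist hA hσ x 1
  rw [h1] at h
  simpa using h

theorem rel_inv (hA : LeftReg A) {x y : H} (h : Rel A x y) : Rel A x⁻¹ y⁻¹ := by
  obtain ⟨σ, hσ, h1, rfl⟩ := h
  obtain ⟨τ, hτ, h3, h4⟩ := twist_mem hA hσ x
  refine ⟨τ, hτ, h3, ?_⟩
  have := h4 1
  rw [h1] at this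
  simpa using this

/-- The S-subgroup generated by an invariant set. -/
theorem closure_inv (hA : LeftReg A) {S : Set H} (hS : Inv A S) :
    Inv A (Subgroup.closure S : Set H) := by
  have key : ∀ x ∈ Subgroup.closure S, ∀ σ ∈ A, σ 1 = 1 → σ x ∈ Subgroup.closure S := by
    intro x hx
    induction hx using Subgroup.closure_induction with
    | mem x hx => exact fun σ hσ h1 => Subgroup.subset_closure (hS σ hσ h1 x hx)
    | one => exact fun σ hσ h1 => by rw [h1]; exact Subgroup.one_mem _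
    | mul x y _ _ ihx ihy =>
      intro σ hσ h1
      obtain ⟨τ, hτ, h3, h4⟩ := twist_mem hA hσ x
      have h5 := h4 (x * y)
      rw [inv_mul_cancel_left] at h5
      have h6 : σ (x * y) = σ x * τ y := by rw [h5]; simp
      rw [h6]
      exact Subgroup.mul_mem _ (ihx σ hσ h1) (ihy τ hτ h3)
    | inv x _ ihx =>
      intro σ hσ h1
      obtain ⟨τ, hτ, h3, h4⟩ := twist_mem hA hσ x⁻¹
      have h5 := h4 1
      rw [h1, mul_one, mul_one, _root_.inv_inv] at h5
      have h6 : σ x⁻¹ = (τ x)⁻¹ := by rw [h5, _root_.inv_inv]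
      rw [h6]
      exact Subgroup.inv_mem _ (ihx τ hτ h3)
  exact fun σ hσ h1 x hx => key x hx σ hσ h1

/-- right stabiliser of a set. -/
def stab (S : Set H) : Subgroup H where
  carrier := {h | ∀ s, s * h ∈ S ↔ s ∈ S}
  mul_mem' := by
    intro a b ha hb s
    rw [← mul_assoc, hb, ha]
  one_mem' := by intro s; rw [mul_one]
  inv_mem' := by
    intro a ha s
    rw [← ha (s * a⁻¹)]
    simp

theorem stab_inv (hA : LeftReg A) {S : Set H} (hS : Inv A S) : Inv A (stab S : Set H) := by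
  intro σ hσ h1 x hx s
  -- choose `z` with `σ z = s⁻¹`
  obtain ⟨z, hz⟩ := σ.surjective s⁻¹
  have h2 := hS.twist hA hσ z x
  have h3 := hS.twist hA hσ z 1
  rw [hz, _root_.inv_inv] at h2 h3
  rw [h1] at h3
  rw [mul_one, mul_one] at h3
  have h4 := hx z⁻¹
  rw [h2, h3]
  exact h4

theorem prim_of_isPreprimitive_aux {G Ω : Type*} [Group G] [MulAction G Ω] [Finite H]
    (hG : MulAction.IsPreprimitive G Ω) (ψ : G →* Equiv.Perm H) (e : H ≃ Ω)
    (he : ∀ (g : G) (x : H), e (ψ g x) = g • e x) (hA : LeftReg ψ.range) : Prim ψ.range := by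
  intro K hK
  have hB : MulAction.IsBlock G (e '' (K : Set H)) := by
    rw [MulAction.isBlock_iff_smul_eq_of_nonempty]
    rintro g ⟨_, ⟨_, ⟨x, hx, rfl⟩, rfl⟩, ⟨y, hy, hxy⟩⟩
    have hxy' : ψ g x = y := by
      apply e.injective
      rw [he]; exact hxy.symm
    have hsub : g • (e '' (K : Set H)) ⊆ e '' (K : Set H) := by
      rintro _ ⟨_, ⟨z, hz, rfl⟩, rfl⟩
      refine ⟨ψ g z, ?_, he g z⟩
      obtain ⟨τ, hτ, h3, h4⟩ := twist_mem hA ⟨g, rfl⟩ x
      have h5 := h4 z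
      have h6 : ψ g z = y * τ (x⁻¹ * z) := by
        rw [h5, hxy']; simp
      rw [h6]
      exact K.mul_mem hy (hK τ hτ h3 _ (K.mul_mem (K.inv_mem hx) hz))
    have hfin : (e '' (K : Set H)).Finite := Set.toFinite _
    apply Set.eq_of_subset_of_ncard_le hsub _ hfin
    rw [Set.ncard_smul_set]
  rcases hG.isTrivialBlock_of_isBlock hB with h | h
  · left
    rw [Subgroup.eq_bot_iff_forall]
    intro x hx
    apply e.injective
    exact h ⟨x, hx, rfl⟩ ⟨1, K.one_mem, rfl⟩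
  · right
    rw [Subgroup.eq_top_iff']
    intro x
    have : e x ∈ e '' (K : Set H) := by rw [h]; trivial
    obtain ⟨y, hy, hxy⟩ := this
    rw [← e.injective hxy]
    exact hy

theorem two_transitive_of_rel {G Ω : Type*} [Group G] [MulAction G Ω]
    (ψ : G →* Equiv.Perm H) (e : H ≃ Ω)
    (he : ∀ (g : G) (x : H), e (ψ g x) = g • e x) (hA : LeftReg ψ.range)
    (h : ∀ x y : H, x ≠ 1 → y ≠ 1 → Rel ψ.range x y) : MulAction.IsMultiplyPretransitive G Ω 2 := by
  rw [MulAction.is_two_pretransitive_iff]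
  intro a b c d hab hcd
  obtain ⟨a, rfl⟩ := e.surjective a
  obtain ⟨b, rfl⟩ := e.surjective b
  obtain ⟨c, rfl⟩ := e.surjective c
  obtain ⟨d, rfl⟩ := e.surjective d
  have hab' : a⁻¹ * b ≠ 1 := fun h => hab (by rw [inv_mul_eq_one.1 h])
  have hcd' : c⁻¹ * d ≠ 1 := fun h => hcd (by rw [inv_mul_eq_one.1 h])
  obtain ⟨σ, hσ, h1, h2⟩ := h _ _ hab' hcd'
  obtain ⟨g, hg⟩ : Equiv.mulLeft c * σ * Equiv.mulLeft a⁻¹ ∈ ψ.range :=
    Subgroup.mul_mem _ (Subgroup.mul_mem _ (hA _) hσ) (hA _)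
  refine ⟨g, ?_, ?_⟩
  · rw [← he, hg]
    simp [Equiv.Perm.mul_apply, h1]
  · rw [← he, hg]
    simp [Equiv.Perm.mul_apply, h2]

/-- Setting up: a regular subgroup `R` of `G`. -/
theorem exists_hom {G Ω : Type*} [Group G] [MulAction G Ω] (R : Subgroup G) (ω : Ω)
    (h1 : MulAction.IsPretransitive ↥R Ω) (h2 : ∀ a : Ω, MulAction.stabilizer ↥R a = ⊥) :
    ∃ (ψ : G →* Equiv.Perm ↥R) (e : ↥R ≃ Ω), (∀ (g : G) (x : ↥R), e (ψ g x) = g • e x) ∧
      LeftReg ψ.range := by
  have hbij : Function.Bijective (fun r : ↥R => r • ω) := by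
    constructor
    · intro r s hrs
      have : s⁻¹ * r ∈ MulAction.stabilizer ↥R ω := by
        rw [MulAction.mem_stabilizer_iff, mul_smul]
        change s⁻¹ • (r • ω) = ω
        have hrs' : r • ω = s • ω := hrs
        rw [hrs', inv_smul_smul]
      rw [h2 ω, Subgroup.mem_bot] at this
      exact (inv_mul_eq_one.1 this).symm
    · exact fun a => MulAction.exists_smul_eq ↥R ω a
  let e : ↥R ≃ Ω := Equiv.ofBijective _ hbij
  have hee : ∀ r : ↥R, e r = r • ω := fun r => rfl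
  refine ⟨{ toFun := fun g => (e.trans (MulAction.toPerm g)).trans e.symm
            map_one' := by ext x; simp
            map_mul' := by
              intro g h
              ext x
              simp [mul_smul] }, e, ?_, ?_⟩
  · intro g x
    simp
  · intro r
    refine ⟨(r : G), ?_⟩
    ext x
    have : e.symm ((r : G) • e x) = r * x := by
      rw [Equiv.symm_apply_eq, hee, hee, mul_smul]
      rfl
    simpa using congrArg Subtype.val this

end Cfsg.Agent.H391.SRing
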