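import Cfsg.Agent.H391.SRing

/-!
# Schur rings over abelian groups: Schur's theorems on power maps, and B-groups

* `pow_rel`: (Schur) `x ~ y → x ^ m ~ y ^ m` for `m` prime to `|H|`.
* `frob_inv`: (Schur) `x ↦ #{t ∈ T | t ^ p = x} mod p` is an S-function for an S-set `T`.
* `periodic`: in a primitive S-ring with `z ^ p = 1` having exactly `p` solutions, an S-set contains with
  `t`, `t ^ p ≠ 1`, the coset `t P`.
* `rel_of_prim`: (Wielandt 25.4) if moreover `H` is not a `p`-group then the S-ring is trivial.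
-/

set_option autoImplicit false

namespace Cfsg.Agent.H391.SRing

variable {H : Type*} [CommGroup H] {A : Subgroup (Equiv.Perm H)}

section frob
variable [Fintype H] [DecidableEq H]

omit [DecidableEq H] in
theorem mulAlg_apply {R : Type*} [CommSemiring R] (f g : MonoidAlgebra R H) (x : H) :
    (f * g).coeff x = ∑ u : H, f.coeff u * g.coeff (u⁻¹ * x) := by
  rw [MonoidAlgebra.coeff_mul_apply_left, Finsupp.sum_fintype]
  intro i; simp

theorem pow_invFun (hA : LeftReg A) {R : Type*} [CommSemiring R] {f : MonoidAlgebra R H}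
    (hf : InvFun A (fun x => f.coeff x)) (n : ℕ) : InvFun A (fun x => (f ^ n).coeff x) := by
  induction n with
  | zero =>
    intro σ hσ h1 x
    simp only [pow_zero, MonoidAlgebra.one_def]
    by_cases hx : x = 1
    · subst hx; rw [h1]
    · have hx' : σ x ≠ 1 := fun h => hx (σ.injective (by rw [h, h1]))
      simp only [MonoidAlgebra.coeff_single, Finsupp.single_apply]
      rw [if_neg (Ne.symm hx'), if_neg (Ne.symm hx)]
  | succ n ih =>
    have h := conv_inv hA ih hf
    intro σ hσ h1 x
    have h2 := h σ hσ h1 x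
    change (f ^ (n + 1)).coeff (σ x) = (f ^ (n + 1)).coeff x
    rw [pow_succ, mulAlg_apply, mulAlg_apply]
    exact h2

/-- **Schur**: the Frobenius image of an invariant set. -/
theorem frob_inv (hA : LeftReg A) (p : ℕ) [hp : Fact p.Prime] (T : Set H) (hT : Inv A T) [DecidablePred (· ∈ T)] :
    InvFun A (fun x => (((Finset.univ.filter (fun t => t ∈ T ∧ t ^ p = x)).card : ℕ) : ZMod p)) := by
  let τ : MonoidAlgebra (ZMod p) H := ∑ t ∈ Finset.univ.filter (fun t => t ∈ T), MonoidAlgebra.single t (1 : ZMod p)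
  have hτ : ∀ x, τ.coeff x = if x ∈ T then 1 else 0 := by
    intro x
    simp only [τ]
    rw [MonoidAlgebra.coeff_sum, Finsupp.finsetSum_apply]
    simp only [MonoidAlgebra.coeff_single, Finsupp.single_apply]
    rw [Finset.sum_ite_eq']
    simp
  have hinv : InvFun A (fun x => τ.coeff x) := by
    intro σ hσ h1 x
    simp only [hτ]
    by_cases hx : x ∈ T
    · rw [if_pos hx, if_pos ((hT.mem_iff hσ h1 x).2 hx)]
    · rw [if_neg hx, if_neg (fun h => hx ((hT.mem_iff hσ h1 x).1 h))]
  have hpow : τ ^ p = ∑ t ∈ Finset.univ.filter (fun t => t ∈ T), MonoidAlgebra.single (t ^ p) (1 : ZMod p) := by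
    have hchar : CharP (MonoidAlgebra (ZMod p) H) p :=
      charP_of_injective_algebraMap (algebraMap (ZMod p) (MonoidAlgebra (ZMod p) H)).injective p
    have hexp : ExpChar (MonoidAlgebra (ZMod p) H) p := ExpChar.prime hp.out
    simp only [τ]
    rw [sum_pow_char p]
    refine Finset.sum_congr rfl fun t _ => ?_
    rw [MonoidAlgebra.single_pow, one_pow]
  have hval : ∀ x, (τ ^ p).coeff x = (((Finset.univ.filter (fun t => t ∈ T ∧ t ^ p = x)).card : ℕ) : ZMod p) := by
    intro x
    rw [hpow, MonoidAlgebra.coeff_sum, Finsupp.finsetSum_apply]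
    simp only [MonoidAlgebra.coeff_single, Finsupp.single_apply]
    rw [Finset.sum_ite, Finset.sum_const_zero, add_zero, Finset.sum_const, nsmul_eq_mul, mul_one,
      Finset.filter_filter]
  have h := pow_invFun hA hinv p
  intro σ hσ h1 x
  have h2 := h σ hσ h1 x
  simp only [hval] at h2
  exact h2

end frob

section pow
variable [Finite H]

theorem pow_lift_prime (hA : LeftReg A) {p : ℕ} (hp : p.Prime) (hpH : p.Coprime (Nat.card H)) (x w : H)
    (hw : Rel A (x ^ p) w) : ∃ t, Rel A x t ∧ t ^ p = w := by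
  classical
  have : Fact p.Prime := ⟨hp⟩
  have := Fintype.ofFinite H
  have h := frob_inv hA p {y | Rel A x y} (inv_setOf_rel x)
  obtain ⟨σ, hσ, h1, rfl⟩ := hw
  have h2 := h σ hσ h1 (x ^ p)
  have hinj : Function.Injective (fun y : H => y ^ p) := by
    have := (powCoprime (G := H) (n := p) hpH.symm).injective
    intro a b hab
    exact this hab
  have h3 : (Finset.univ.filter (fun t => t ∈ {y | Rel A x y} ∧ t ^ p = x ^ p)) = {x} := by
    ext t
    simp only [Finset.mem_filter, Finset.mem_univ, true_and, Set.mem_ofPred_eq, Finset.mem_singleton]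
    constructor
    · rintro ⟨_, h⟩; exact hinj h
    · rintro rfl; exact ⟨Rel.refl _, rfl⟩
  simp only [h3, Finset.card_singleton, Nat.cast_one] at h2
  have h4 : (Finset.univ.filter (fun t => t ∈ {y | Rel A x y} ∧ t ^ p = σ (x ^ p))).Nonempty := by
    rw [Finset.nonempty_iff_ne_empty]
    intro h5
    rw [h5] at h2
    simp at h2
  obtain ⟨t, ht⟩ := h4
  simp only [Finset.mem_filter, Finset.mem_univ, true_and, Set.mem_ofPred_eq] at ht
  exact ⟨t, ht.1, ht.2⟩

theorem pow_lift (hA : LeftReg A) {m : ℕ} : m.Coprime (Nat.card H) → ∀ x w : H, Rel A (x ^ m) w →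
    ∃ t, Rel A x t ∧ t ^ m = w := by
  induction m using induction_on_primes with
  | zero =>
    intro _ x w hw
    rw [pow_zero] at hw
    exact ⟨x, Rel.refl x, by rw [pow_zero]; exact (rel_one hw.symm).symm⟩
  | one =>
    intro _ x w hw
    rw [pow_one] at hw
    exact ⟨w, hw, pow_one w⟩
  | prime_mul p a hp ih =>
    intro hco x w hw
    have hcp : p.Coprime (Nat.card H) := Nat.Coprime.coprime_mul_right hco
    have hca : a.Coprime (Nat.card H) := Nat.Coprime.coprime_mul_left hco
    rw [pow_mul] at hw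
    obtain ⟨t', ht', hta⟩ := ih hca (x ^ p) w hw
    obtain ⟨t, ht, htp⟩ := pow_lift_prime hA hp hcp x t' ht'
    exact ⟨t, ht, by rw [pow_mul, htp, hta]⟩

/-- **Schur's theorem on multipliers.** -/
theorem pow_rel (hA : LeftReg A) {m : ℕ} (hm : m.Coprime (Nat.card H)) {x y : H} (h : Rel A x y) :
    Rel A (x ^ m) (y ^ m) := by
  rcases Nat.lt_or_ge 1 (Nat.card H) with hc | hc
  · obtain ⟨m', _, hm'⟩ := Nat.exists_mul_mod_eq_one_of_coprime hm hc
    have hmm : ∀ z : H, (z ^ m) ^ m' = z := by
      intro z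
      rw [← pow_mul, ← Nat.div_add_mod (m * m') (Nat.card H), hm', pow_add, pow_mul, pow_card_eq_one', one_pow,
        one_mul, pow_one]
    have hmm' : ∀ z : H, (z ^ m') ^ m = z := by
      intro z
      rw [← pow_mul, mul_comm m' m, pow_mul, hmm]
    have hco' : m'.Coprime (Nat.card H) := by
      apply Nat.Coprime.coprime_mul_left (k := m)
      rw [Nat.coprime_iff_gcd_eq_one, Nat.gcd_comm, Nat.gcd_rec, hm', Nat.gcd_one_left]
    obtain ⟨t, ht, htm⟩ := pow_lift hA hco' (x ^ m) y (by rw [hmm]; exact h)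
    have : t = y ^ m := by rw [← htm, hmm']
    rw [← this]
    exact ht
  · have : Subsingleton H := Finite.card_le_one_iff_subsingleton.1 hc
    rw [Subsingleton.elim (x ^ m) (y ^ m)]
    exact Rel.refl _

/-- an S-set is a union of `P`-cosets outside of `P`. -/
theorem periodic (hA : LeftReg A) (hprim : Prim A) {p : ℕ} (hp : p.Prime)
    (hP : Nat.card {z : H // z ^ p = 1} = p) {T : Set H} (hT : Inv A T) {t z : H} (ht : t ∈ T)
    (htp : t ^ p ≠ 1) (hz : z ^ p = 1) : t * z ∈ T := by
  classical
  have : Fact p.Prime := ⟨hp⟩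
  have := Fintype.ofFinite H
  have h := frob_inv hA p T hT
  let φ : H → ZMod p := fun x => (((Finset.univ.filter (fun t => t ∈ T ∧ t ^ p = x)).card : ℕ) : ZMod p)
  let W : Set H := {x | φ x ≠ 0}
  have hW : Inv A W := by
    intro σ hσ h1 x hx
    change φ (σ x) ≠ 0
    rw [show φ (σ x) = φ x from h σ hσ h1 x]
    exact hx
  have hWr : W ⊆ (powMonoidHom p : H →* H).range := by
    intro x hx
    have hne : (Finset.univ.filter (fun t => t ∈ T ∧ t ^ p = x)).Nonempty := by
      rw [Finset.nonempty_iff_ne_empty]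
      intro h5
      apply hx
      change ((_ : ℕ) : ZMod p) = 0
      rw [h5]; simp
    obtain ⟨s, hs⟩ := hne
    simp only [Finset.mem_filter, Finset.mem_univ, true_and] at hs
    exact ⟨s, hs.2⟩
  have hcl : Subgroup.closure W ≤ (powMonoidHom p : H →* H).range := (Subgroup.closure_le _).2 hWr
  have hbot : Subgroup.closure W = ⊥ := by
    rcases hprim _ (closure_inv hA hW) with h6 | h6
    · exact h6
    · exfalso
      rw [h6, top_le_iff] at hcl
      have hsurj : Function.Surjective (powMonoidHom p : H →* H) := MonoidHom.range_eq_top.1 hcl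
      have hinj := Finite.injective_iff_surjective.2 hsurj
      have h1 : Nat.card {z : H // z ^ p = 1} ≤ 1 := by
        rw [Finite.card_le_one_iff_subsingleton]
        constructor
        rintro ⟨a, ha⟩ ⟨b, hb⟩
        apply Subtype.ext
        apply hinj
        simp [ha, hb]
      rw [hP] at h1
      exact absurd hp.two_le (by omega)
  have h0 : φ (t ^ p) = 0 := by
    by_contra hne
    have : t ^ p ∈ Subgroup.closure W := Subgroup.subset_closure hne
    rw [hbot, Subgroup.mem_bot] at this
    exact htp this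
  -- the set `F`
  let F : Finset H := Finset.univ.filter (fun s => s ∈ T ∧ s ^ p = t ^ p)
  have hdvd : p ∣ F.card := (ZMod.natCast_eq_zero_iff _ _).1 h0
  let E : Finset H := (Finset.univ.filter (fun z : H => z ^ p = 1)).image (fun z => t * z)
  have hE : E.card = p := by
    rw [Finset.card_image_of_injective _ (mul_right_injective t)]
    rw [Nat.card_eq_fintype_card, Fintype.card_subtype] at hP
    exact hP
  have hFE : F ⊆ E := by
    intro s hs
    simp only [F, Finset.mem_filter, Finset.mem_univ, true_and] at hs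
    simp only [E, Finset.mem_image, Finset.mem_filter, Finset.mem_univ, true_and]
    refine ⟨t⁻¹ * s, ?_, by simp⟩
    rw [mul_pow, hs.2, inv_pow, inv_mul_cancel]
  have hFne : 0 < F.card := by
    rw [Finset.card_pos]
    exact ⟨t, by simp [F, ht]⟩
  have hFc : E.card ≤ F.card := by rw [hE]; exact Nat.le_of_dvd hFne hdvd
  have hFeq : F = E := Finset.eq_of_subset_of_card_le hFE hFc
  have hmem : t * z ∈ E := by
    simp only [E, Finset.mem_image, Finset.mem_filter, Finset.mem_univ, true_and]
    exact ⟨z, hz, rfl⟩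
  rw [← hFeq] at hmem
  simp only [F, Finset.mem_filter, Finset.mem_univ, true_and] at hmem
  exact hmem.1

theorem exists_rel_order_p (hA : LeftReg A) (hprim : Prim A) {p : ℕ} (hp : p.Prime)
    (hP : Nat.card {z : H // z ^ p = 1} = p) {x : H} (hx : x ≠ 1) :
    ∃ z, z ≠ 1 ∧ z ^ p = 1 ∧ Rel A x z := by
  by_contra hcon
  push Not at hcon
  have hTne : ∀ y, Rel A x y → y ^ p ≠ 1 := by
    intro y hy hyp
    refine hcon y ?_ hyp hy
    rintro rfl
    exact hx (rel_one hy)
  have hT := inv_setOf_rel (A := A) x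
  have hst : ∀ z : H, z ^ p = 1 → z ∈ stab {y | Rel A x y} := by
    intro z hz s
    constructor
    · intro h
      have h2 := periodic hA hprim hp hP hT h (hTne _ h) (z := z⁻¹) (by rw [inv_pow, hz, inv_one])
      simpa using h2
    · intro h
      exact periodic hA hprim hp hP hT h (hTne _ h) hz
  obtain ⟨z, hz1, hzp⟩ : ∃ z : H, z ≠ 1 ∧ z ^ p = 1 := by
    by_contra h
    push Not at h
    have h1 : Nat.card {z : H // z ^ p = 1} ≤ 1 := by
      rw [Finite.card_le_one_iff_subsingleton]
      constructor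
      rintro ⟨a, ha⟩ ⟨b, hb⟩
      apply Subtype.ext
      by_contra hab
      have ha1 : a = 1 := by
        by_contra h3; exact h a h3 ha
      have hb1 : b = 1 := by
        by_contra h3; exact h b h3 hb
      exact hab (ha1.trans hb1.symm)
    rw [hP] at h1
    exact absurd hp.two_le (by omega)
  rcases hprim _ (stab_inv hA hT) with h | h
  · have := hst z hzp
    rw [h, Subgroup.mem_bot] at this
    exact hz1 this
  · have h2 : x⁻¹ ∈ stab {y | Rel A x y} := by rw [h]; trivial
    have h3 := (h2 x).2 (Rel.refl x)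
    rw [mul_inv_cancel] at h3
    exact hx (rel_one h3)

/-- **Wielandt 25.4** (Burnside, Schur): a primitive S-ring over an abelian group `H` in which `z ^ p = 1` has
exactly `p` solutions and which is not a `p`-group is trivial. -/
theorem rel_of_prim (hA : LeftReg A) (hprim : Prim A) {p : ℕ} (hp : p.Prime)
    (hP : Nat.card {z : H // z ^ p = 1} = p) {y₀ : H} (hy1 : y₀ ≠ 1) (hy : (orderOf y₀).Coprime p)
    {x y : H} (hx1 : x ≠ 1) (hyy1 : y ≠ 1) : Rel A x y := by
  have key : ∀ z : H, z ≠ 1 → z ^ p = 1 → Rel A y₀ z := by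
    intro z hz1 hzp
    obtain ⟨z₁, h1, h2, h3⟩ := exists_rel_order_p hA hprim hp hP hy1
    have : Fact p.Prime := ⟨hp⟩
    have hord : orderOf z₁ = p := orderOf_eq_prime h2 h1
    -- `z` is a power of `z₁`
    have hzmem : z ∈ Subgroup.zpowers z₁ := by
      have hsub : (Subgroup.zpowers z₁ : Set H) ⊆ {z : H | z ^ p = 1} := by
        rintro _ ⟨k, rfl⟩
        change (z₁ ^ k) ^ p = 1
        rw [← zpow_natCast, ← zpow_mul, mul_comm, zpow_mul, zpow_natCast, h2, one_zpow]
      have hcard : ({z : H | z ^ p = 1}).ncard ≤ (Subgroup.zpowers z₁ : Set H).ncard := by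
        rw [← Nat.card_coe_set_eq, ← Nat.card_coe_set_eq]
        change Nat.card {z : H // z ^ p = 1} ≤ Nat.card (Subgroup.zpowers z₁)
        rw [hP, Nat.card_zpowers, hord]
      have heq := Set.eq_of_subset_of_ncard_le hsub hcard (Set.toFinite _)
      have : z ∈ {z : H | z ^ p = 1} := hzp
      rw [← heq] at this
      exact this
    obtain ⟨j, hj⟩ := (mem_powers_iff_mem_zpowers).2 hzmem
    have hj' : z₁ ^ j = z := hj
    have hpj : ¬ p ∣ j := by
      rintro ⟨k, rfl⟩
      apply hz1
      rw [← hj', pow_mul, h2, one_pow]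
    -- split the order
    obtain ⟨a, N, hN, hcard⟩ : ∃ a N : ℕ, ¬ p ∣ N ∧ Nat.card H = p ^ a * N :=
      Nat.exists_eq_pow_mul_and_not_dvd (Nat.card_pos).ne' p hp.ne_one
    have hNp : Nat.Coprime N p := ((hp.coprime_iff_not_dvd).2 hN).symm
    obtain ⟨m, hm1, hm2⟩ := Nat.chineseRemainder hNp 1 j
    have hyN : orderOf y₀ ∣ N := by
      have h4 : orderOf y₀ ∣ p ^ a * N := by rw [← hcard]; exact orderOf_dvd_natCard y₀
      exact (Nat.Coprime.pow_right a hy).dvd_of_dvd_mul_left h4
    have hmco : m.Coprime (Nat.card H) := by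
      rw [hcard]
      apply Nat.Coprime.mul_right
      · apply Nat.Coprime.pow_right
        rw [Nat.coprime_comm, hp.coprime_iff_not_dvd]
        intro hd
        exact hpj ((Nat.modEq_zero_iff_dvd).1 (hm2.symm.trans ((Nat.modEq_zero_iff_dvd).2 hd)))
      · have := hm1.gcd_eq
        rw [Nat.coprime_iff_gcd_eq_one, this, Nat.gcd_one_left]
    have h5 := pow_rel hA hmco h3
    have h6 : y₀ ^ m = y₀ := by
      have : y₀ ^ m = y₀ ^ 1 := by
        rw [pow_eq_pow_iff_modEq]
        exact hm1.of_dvd hyN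
      rw [this, pow_one]
    have h7 : z₁ ^ m = z := by
      rw [← hj', pow_eq_pow_iff_modEq, hord]
      exact hm2
    rw [h6, h7] at h5
    exact h5
  obtain ⟨z, hz1, hzp, hxz⟩ := exists_rel_order_p hA hprim hp hP hx1
  obtain ⟨w, hw1, hwp, hyw⟩ := exists_rel_order_p hA hprim hp hP hyy1
  exact hxz.trans (((key z hz1 hzp).symm.trans (key w hw1 hwp)).trans hyw.symm)

end pow

end Cfsg.Agent.H391.SRing
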